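import Cfsg.Agent.H50.Walter.PieceOdd
import Cfsg.Agent.H10.Walter.Setting
import Cfsg.Agent.S1245

/-!
# Piece facts for the groups of type R

The centraliser of an involution `t` is `⟨t⟩ × E`; it is maximal, so an odd automorphism fixing it
is determined by its action on the centraliser of a second involution.
-/

set_option autoImplicit false
set_option linter.unusedSectionVars false
set_option linter.style.haveILetI false

namespace Cfsg.Agent.H50.Walter

open Subgroup Cfsg.Agent Cfsg.Agent.H88.Walter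

variable {L : Type*} [Group L]

/-- The centraliser data of a group of type R at an involution `t`. -/
structure RData (t : L) (E E₀ : Subgroup L) : Prop where
  ord : orderOf t = 2
  prod : Cfsg.IsInternalDirectProduct (zpowers t) E (centralizer ({t} : Set L))
  le : E₀ ≤ E
  normal : (E₀.subgroupOf E).Normal
  psl : H10.Walter.IsOddPSL ↥E₀
  cent : E ⊓ centralizer (E₀ : Set L) = ⊥

theorem RData.map {t : L} {E E₀ : Subgroup L} (h : RData t E E₀) (e : L ≃* L) :
    RData (e t) (E.map e.toMonoidHom) (E₀.map e.toMonoidHom) := by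
  have hinj : Function.Injective e.toMonoidHom := e.injective
  have hz : (zpowers t).map e.toMonoidHom = zpowers (e t) := MonoidHom.map_zpowers _ _
  obtain ⟨h1, h2, h3, h4, h5⟩ := h.prod
  refine ⟨by rw [e.orderOf_eq, h.ord], ⟨?_, ?_, ?_, ?_, ?_⟩, map_mono h.le, ?_, ?_, ?_⟩
  · rw [← hz, ← centralizer_map e t]; exact map_mono h1
  · rw [← centralizer_map e t]; exact map_mono h2
  · rw [← hz]
    rintro _ ⟨a, ha, rfl⟩ _ ⟨b, hb, rfl⟩
    rw [← map_mul, ← map_mul, h3 a ha b hb]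
  · rw [← hz, ← map_inf _ _ _ hinj, h4, Subgroup.map_bot]
  · rw [← hz, ← Subgroup.map_sup, h5, centralizer_map]
  · refine ⟨fun a ha b => ?_⟩
    rw [mem_subgroupOf] at ha ⊢
    obtain ⟨a', ha', hae⟩ := ha
    obtain ⟨b', hb', hbe⟩ := b.2
    refine ⟨b' * a' * b'⁻¹, ?_, by
      rw [map_mul, map_mul, map_inv, hae, hbe]; rfl⟩
    have := h.normal.conj_mem ⟨a', h.le ha'⟩ (mem_subgroupOf.2 ha') ⟨b', hb'⟩
    exact mem_subgroupOf.1 this
  · obtain ⟨F, _, _, h5', h8, ⟨i⟩⟩ := h.psl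
    exact ⟨F, inferInstance, inferInstance, h5', h8, ⟨(E₀.equivMapOfInjective _ hinj).symm.trans i⟩⟩
  · rw [eq_bot_iff]
    rintro _ ⟨⟨y, hy, rfl⟩, hc⟩
    have : y ∈ E ⊓ centralizer (E₀ : Set L) := ⟨hy, mem_centralizer_iff.2 fun z hz => hinj (by
      simpa only [map_mul] using mem_centralizer_iff.1 hc _ ⟨z, hz, rfl⟩)⟩
    rw [h.cent, mem_bot] at this
    rw [this, map_one]; exact one_mem _

namespace RData

variable {t : L} {E E₀ : Subgroup L} (h : RData t E E₀)
include h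

theorem ne_one : t ≠ 1 := fun e => by
  have := h.ord
  rw [e, orderOf_one] at this
  omega

theorem sq : t * t = 1 := by
  have e := pow_orderOf_eq_one t
  rwa [h.ord, pow_two] at e

theorem E_le : E ≤ centralizer {t} := h.prod.2.1

theorem decomp {x : L} (hx : x ∈ centralizer ({t} : Set L)) :
    ∃ e ∈ E, x = e ∨ x = t * e := by
  obtain ⟨-, -, hc, -, hsup⟩ := h.prod
  have hle : zpowers t ≤ normalizer (E : Set L) := by
    intro a ha
    refine mem_normalizer_iff.2 fun y => ⟨fun hy => ?_, fun hy => ?_⟩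
    · rwa [hc a ha y hy, mul_inv_cancel_right]
    · have h2 := hc a⁻¹ (inv_mem ha) _ hy
      rw [show a⁻¹ * (a * y * a⁻¹) = y * a⁻¹ by group] at h2
      rwa [mul_right_cancel h2]
  rw [← hsup, ← SetLike.mem_coe, coe_mul_of_left_le_normalizer_right _ _ hle] at hx
  obtain ⟨a, ha, e, he, rfl⟩ := hx
  obtain ⟨k, rfl⟩ := mem_zpowers_iff.1 ha
  refine ⟨e, he, ?_⟩
  have h2 : t ^ (2 : ℤ) = 1 := by rw [_root_.zpow_two, h.sq]
  rcases Int.even_or_odd k with ⟨j, rfl⟩ | ⟨j, rfl⟩
  · left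
    show t ^ (j + j) * e = e
    rw [← two_mul, _root_.zpow_mul, h2, _root_.one_zpow, one_mul]
  · right
    show t ^ (2 * j + 1) * e = t * e
    rw [_root_.zpow_add, _root_.zpow_mul, h2, _root_.one_zpow, one_mul, zpow_one]

theorem t_comm {e : L} (he : e ∈ E₀) : t * e = e * t :=
  h.prod.2.2.1 t (mem_zpowers t) e (h.le he)

theorem eq_of_cent {x : L} (hx : x ∈ centralizer ({t} : Set L))
    (hc : x ∈ centralizer (E₀ : Set L)) : x = 1 ∨ x = t := by
  obtain ⟨e, he, hxe⟩ := h.decomp hx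
  have hec : e ∈ centralizer (E₀ : Set L) := by
    rcases hxe with rfl | rfl
    · exact hc
    · have htc : t ∈ centralizer (E₀ : Set L) :=
        mem_centralizer_iff.2 fun y hy => (h.t_comm hy).symm
      simpa [← mul_assoc] using mul_mem (inv_mem htc) hc
  have he1 : e = 1 := by
    have hm : e ∈ E ⊓ centralizer (E₀ : Set L) := ⟨he, hec⟩
    rwa [h.cent, mem_bot] at hm
  rcases hxe with rfl | rfl
  · exact Or.inl he1
  · exact Or.inr (by rw [he1, mul_one])

theorem conj_mem {c y : L} (hc : c ∈ centralizer ({t} : Set L)) (hy : y ∈ E₀) :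
    c * y * c⁻¹ ∈ E₀ := by
  obtain ⟨e, he, hce⟩ := h.decomp hc
  have h1 : e * y * e⁻¹ ∈ E₀ :=
    mem_subgroupOf.1 (h.normal.conj_mem ⟨y, h.le hy⟩ (mem_subgroupOf.2 hy) ⟨e, he⟩)
  rcases hce with rfl | rfl
  · exact h1
  · rwa [show t * e * y * (t * e)⁻¹ = t * (e * y * e⁻¹) * t⁻¹ by group, h.t_comm h1,
      mul_inv_cancel_right]

theorem simple₀ : IsSimpleGroup ↥E₀ ∧ center ↥E₀ = ⊥ := by
  obtain ⟨F, _, _, h5, h8, ⟨i⟩⟩ := h.psl
  haveI := Odd.simple (F := F) h5
  haveI : Nontrivial ↥E₀ := i.toEquiv.nontrivial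
  refine ⟨IsSimpleGroup.isSimpleGroup_of_surjective i.symm.toMonoidHom i.symm.surjective, ?_⟩
  rw [eq_bot_iff]
  intro x hx
  have : i x ∈ center (Matrix.ProjectiveSpecialLinearGroup (Fin 2) F) := mem_center_iff.2 fun y => by
    obtain ⟨z, rfl⟩ := i.surjective y
    rw [← map_mul, ← map_mul, mem_center_iff.1 hx z]
  rw [Odd.center_eq h5, mem_bot] at this
  exact mem_bot.2 (i.injective (by rw [this, map_one]))

theorem four_dvd [Finite L] : 4 ∣ Nat.card ↥E₀ := by
  haveI : Fact (Nat.Prime 2) := ⟨Nat.prime_two⟩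
  obtain ⟨F, _, _, h5, h8, ⟨i⟩⟩ := h.psl
  obtain ⟨T⟩ : Nonempty (Sylow 2 (Matrix.ProjectiveSpecialLinearGroup (Fin 2) F)) := inferInstance
  rw [Nat.card_congr i.toEquiv, ← Odd.card_sylow h8 (Odd.even_card h8) T]
  exact card_subgroup_dvd_card _

theorem exists_involution [Finite L] : ∃ u ∈ E₀, u ≠ 1 ∧ u * u = 1 := by
  haveI : Fact (Nat.Prime 2) := ⟨Nat.prime_two⟩
  obtain ⟨w, hw⟩ := exists_prime_orderOf_dvd_card' (G := ↥E₀) 2 ((by norm_num : 2 ∣ 4).trans h.four_dvd)
  refine ⟨w, w.2, fun e => ?_, ?_⟩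
  · rw [← Subgroup.orderOf_coe, e, orderOf_one] at hw; omega
  · have e := pow_orderOf_eq_one w
    rw [hw, pow_two] at e
    exact congrArg Subtype.val e

theorem odd_relIndex [Finite L] (h16 : ¬ 16 ∣ Nat.card L) : Odd (E₀.relIndex E) := by
  rw [← Nat.not_even_iff_odd]
  intro hev
  refine h16 ?_
  have h1 : Nat.card ↥E₀ * E₀.relIndex E = Nat.card ↥E := by
    rw [← Nat.card_congr (subgroupOfEquivOfLe h.le).toEquiv]
    exact (E₀.subgroupOf E).card_mul_index
  have h8' : 8 ∣ Nat.card ↥E := by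
    rw [← h1]
    exact (show 8 = 4 * 2 by norm_num) ▸ mul_dvd_mul h.four_dvd hev.two_dvd
  have htC : t ∈ centralizer ({t} : Set L) := mem_centralizer_singleton_iff.2 rfl
  have hlt : Nat.card ↥(E.subgroupOf (centralizer {t})) = Nat.card ↥E :=
    Nat.card_congr (subgroupOfEquivOfLe h.E_le).toEquiv
  have hidx : 2 ∣ (E.subgroupOf (centralizer ({t} : Set L))).index := by
    haveI : Fact (Nat.Prime 2) := ⟨Nat.prime_two⟩
    haveI hn : (E.subgroupOf (centralizer ({t} : Set L))).Normal := ⟨fun a ha b => by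
      rw [mem_subgroupOf] at ha ⊢
      obtain ⟨e, he, hbe⟩ := h.decomp b.2
      have ht : ∀ y ∈ E, t * y * t⁻¹ = y := fun y hy => by
        rw [h.prod.2.2.1 t (mem_zpowers t) y hy, mul_inv_cancel_right]
      have h1 : e * (a : L) * e⁻¹ ∈ E := mul_mem (mul_mem he ha) (inv_mem he)
      simp only [Subgroup.coe_mul, Subgroup.coe_inv]
      rcases hbe with e' | e' <;> rw [e']
      · exact h1
      · rw [show t * e * (a : L) * (t * e)⁻¹ = t * (e * a * e⁻¹) * t⁻¹ by group, ht _ h1]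
        exact h1⟩
    rw [index_eq_card]
    set q := ((⟨t, htC⟩ : centralizer ({t} : Set L)) :
      centralizer ({t} : Set L) ⧸ E.subgroupOf (centralizer ({t} : Set L)))
    have hq : q ≠ 1 := fun e => h.ne_one (by
      have h1 : t ∈ E := mem_subgroupOf.1 ((QuotientGroup.eq_one_iff _).1 e)
      have h2 : t ∈ zpowers t ⊓ E := ⟨mem_zpowers t, h1⟩
      rwa [h.prod.2.2.2.1, mem_bot] at h2)
    have hq2 : q ^ 2 = 1 := by
      show ((((⟨t, htC⟩ : centralizer ({t} : Set L)) ^ 2 : centralizer ({t} : Set L))) :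
        centralizer ({t} : Set L) ⧸ E.subgroupOf (centralizer ({t} : Set L))) = 1
      rw [show (⟨t, htC⟩ : centralizer ({t} : Set L)) ^ 2 = 1 from
        Subtype.ext (by rw [Subgroup.coe_pow, pow_two]; exact h.sq)]
      rfl
    exact orderOf_eq_prime hq2 hq ▸ orderOf_dvd_natCard q
  have := mul_dvd_mul h8' hidx
  rw [← hlt, card_mul_index] at this
  exact this.trans (card_subgroup_dvd_card _)

theorem two_element_mem [Finite L] (h16 : ¬ 16 ∣ Nat.card L) {e : L} (he : e ∈ E) {k : ℕ}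
    (hk : e ^ 2 ^ k = 1) : e ∈ E₀ := by
  haveI : (E₀.subgroupOf E).Normal := h.normal
  have h1 : ((⟨e, he⟩ : E) : ↥E ⧸ E₀.subgroupOf E) = 1 := by
    refine orderOf_eq_one_iff.1 ?_
    obtain ⟨j, -, hj⟩ := (Nat.dvd_prime_pow Nat.prime_two).1 (orderOf_dvd_of_pow_eq_one
      (x := ((⟨e, he⟩ : E) : ↥E ⧸ E₀.subgroupOf E)) (n := 2 ^ k) (by
        rw [← QuotientGroup.mk_pow, show (⟨e, he⟩ : E) ^ 2 ^ k = 1 from Subtype.ext hk,
          QuotientGroup.mk_one]))
    rw [hj]
    rcases Nat.eq_zero_or_pos j with rfl | hj0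
    · rfl
    · exfalso
      have h2 : 2 ∣ E₀.relIndex E :=
        ((dvd_pow_self 2 hj0.ne').trans (hj ▸ orderOf_dvd_natCard _))
      have h3 := Nat.odd_iff.1 (h.odd_relIndex h16)
      omega
  exact mem_subgroupOf.1 ((QuotientGroup.eq_one_iff _).1 h1)

theorem sq_two_element [Finite L] (h16 : ¬ 16 ∣ Nat.card L) {x : L}
    (hx : x ∈ centralizer ({t} : Set L)) {k : ℕ} (hk : x ^ 2 ^ k = 1) : x * x = 1 := by
  haveI : Fact (Nat.Prime 2) := ⟨Nat.prime_two⟩
  obtain ⟨e, he, hxe⟩ := h.decomp hx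
  have hte : Commute t e := h.prod.2.2.1 t (mem_zpowers t) e he
  have hxx : x * x = e * e := by
    rcases hxe with rfl | rfl
    · rfl
    · rw [hte.symm.mul_mul_mul_comm, h.sq, one_mul]
  rw [hxx]
  have hek : e ^ 2 ^ (k + 1) = 1 := by
    rw [pow_succ', pow_mul, pow_two, ← hxx, ← pow_two, ← pow_mul, ← pow_succ', pow_succ, pow_mul,
      hk, one_pow]
  have he0 : e ∈ E₀ := h.two_element_mem h16 he hek
  obtain ⟨F, _, _, h5, h8, ⟨i⟩⟩ := h.psl
  have hp : IsPGroup 2 ↥(zpowers (i ⟨e, he0⟩)) := IsPGroup.iff_card.2 (by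
    rw [Nat.card_zpowers]
    obtain ⟨j, -, hj⟩ := (Nat.dvd_prime_pow Nat.prime_two).1 (orderOf_dvd_of_pow_eq_one
      (x := i ⟨e, he0⟩) (n := 2 ^ (k + 1)) (by
        rw [← map_pow, show (⟨e, he0⟩ : E₀) ^ 2 ^ (k + 1) = 1 from Subtype.ext hek, map_one]))
    exact ⟨j, hj⟩)
  obtain ⟨T, hT⟩ := hp.exists_le_sylow
  have := Odd.elem h8 T _ (hT (mem_zpowers _))
  rw [← map_mul, ← map_one i] at this
  exact congrArg Subtype.val (i.injective this)

theorem balanced [Finite L] : BalancedAt t := by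
  intro X hX hodd hn
  haveI := h.simple₀.1
  rw [eq_bot_iff]
  intro x hx
  have hcom : ∀ y ∈ E₀, x * y = y * x := by
    intro y hy
    haveI hnorm : (X.subgroupOf E₀).Normal := ⟨fun a ha b => by
      rw [mem_subgroupOf] at ha ⊢
      simp only [Subgroup.coe_mul, Subgroup.coe_inv]
      exact (mem_normalizer_iff.1 (hn (h.E_le (h.le b.2))) _).1 ha⟩
    rcases IsSimpleGroup.eq_bot_or_eq_top_of_normal _ hnorm with e | e
    · have hE : x * y * x⁻¹ * y⁻¹ ∈ E₀ := mul_mem (h.conj_mem (hX hx) hy) (inv_mem hy)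
      have hXm : x * y * x⁻¹ * y⁻¹ ∈ X := by
        rw [show x * y * x⁻¹ * y⁻¹ = x * (y * x⁻¹ * y⁻¹) by group]
        exact mul_mem hx ((mem_normalizer_iff.1 (hn (h.E_le (h.le hy))) _).1 (inv_mem hx))
      have hm : (⟨_, hE⟩ : E₀) ∈ X.subgroupOf E₀ := mem_subgroupOf.2 hXm
      rw [e, mem_bot] at hm
      exact mul_inv_eq_iff_eq_mul.1 (mul_inv_eq_one.1 (congrArg Subtype.val hm))
    · exfalso
      obtain ⟨u, hu, hu1, hu2⟩ := h.exists_involution
      have huX : u ∈ X := mem_subgroupOf.1 (e ▸ mem_top (⟨u, hu⟩ : E₀))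
      exact hu1 (orderOf_eq_one_iff.1 (Nat.eq_one_of_dvd_coprimes (Nat.coprime_two_left.2 hodd)
        (orderOf_dvd_of_pow_eq_one (by rw [pow_two, hu2])) (Subgroup.orderOf_dvd_natCard _ huX)))
  rcases h.eq_of_cent (hX hx) (mem_centralizer_iff.2 fun y hy => (hcom y hy).symm) with e | e
  · rw [e]; exact one_mem _
  · exfalso
    exact h.ne_one (orderOf_eq_one_iff.1 (Nat.eq_one_of_dvd_coprimes
      (Nat.coprime_two_left.2 hodd) (orderOf_dvd_of_pow_eq_one (by rw [pow_two, h.sq]))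
      (Subgroup.orderOf_dvd_natCard _ (e ▸ hx))))

/-- An odd automorphism fixing `t` and the centraliser of an involution `v ≠ t` of `C(t)` fixes
`C(t)`. -/
theorem fixes_of_second [Finite L] (h16 : ¬ 16 ∣ Nat.card L) {φ : MulAut L}
    (hφ : Odd (orderOf φ)) {v : L} (hv : v * v = 1) (hv1 : v ≠ 1) (hvt : v ≠ t)
    (hvc : v ∈ centralizer ({t} : Set L)) (hfix : Fixes φ (centralizer {v})) :
    Fixes φ (centralizer {t}) := by
  haveI : Fact (Nat.Prime 2) := ⟨Nat.prime_two⟩
  have ht : φ t = t := hfix t (mem_centralizer_singleton_iff.2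
    (mem_centralizer_singleton_iff.1 hvc).symm)
  obtain ⟨e, he, hve⟩ := h.decomp hvc
  have hte : Commute t e := h.prod.2.2.1 t (mem_zpowers t) e he
  have hee : e * e = 1 := by
    rcases hve with e' | e' <;> rw [e'] at hv
    · exact hv
    · rwa [hte.symm.mul_mul_mul_comm, h.sq, one_mul] at hv
  have he1 : e ≠ 1 := by
    rintro rfl
    rcases hve with e' | e'
    · exact hv1 e'
    · exact hvt (by rw [e', mul_one])
  have he0 : e ∈ E₀ := h.two_element_mem h16 he (k := 1) (by rw [pow_one, pow_two, hee])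
  have hfe : ∀ y ∈ E₀, y * e = e * y → φ y = y := fun y hy hye => hfix y (by
    refine mem_centralizer_singleton_iff.2 ?_
    rcases hve with e' | e' <;> rw [e']
    · exact hye
    · rw [← mul_assoc, ← h.t_comm hy, mul_assoc, hye, mul_assoc])
  -- `φ` stabilises `E₀`
  haveI := h.simple₀.1
  have hstab : ∀ (ψ : MulAut L), ψ t = t → (∀ y ∈ E₀, y * e = e * y → ψ y = y) →
      ∀ y ∈ E₀, ψ y ∈ E₀ := by
    intro ψ hψt hψ y hy
    haveI hn : ((E₀.comap ψ.toMonoidHom).subgroupOf E₀).Normal := ⟨fun a ha b => by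
      rw [mem_subgroupOf, mem_comap] at ha ⊢
      simp only [Subgroup.coe_mul, Subgroup.coe_inv, map_mul, map_inv]
      exact h.conj_mem (centralizer_invariant hψt (h.E_le (h.le b.2))) ha⟩
    have htop := (IsSimpleGroup.eq_bot_or_eq_top_of_normal _ hn).resolve_left fun e' => he1 (by
      have hm : (⟨e, he0⟩ : E₀) ∈ (E₀.comap ψ.toMonoidHom).subgroupOf E₀ := by
        rw [mem_subgroupOf, mem_comap]
        show ψ e ∈ E₀
        rw [hψ e he0 rfl]; exact he0
      rw [e', mem_bot] at hm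
      exact congrArg Subtype.val hm)
    exact mem_comap.1 (mem_subgroupOf.1 (htop ▸ mem_top (⟨y, hy⟩ : E₀)))
  have hsy : ∀ y ∈ E₀, φ.symm y ∈ E₀ := hstab φ.symm
    (φ.injective (by rw [φ.apply_symm_apply, ht]))
    (fun y hy hye => φ.injective (by rw [φ.apply_symm_apply, hfe y hy hye]))
  let θ : MulAut ↥E₀ := MulEquiv.mk'
    { toFun := fun y => ⟨φ y, hstab φ ht hfe y y.2⟩
      invFun := fun y => ⟨φ.symm y, hsy y y.2⟩
      left_inv := fun y => Subtype.ext (φ.symm_apply_apply _)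
      right_inv := fun y => Subtype.ext (φ.apply_symm_apply _) }
    fun a b => Subtype.ext (map_mul φ (a : L) b)
  have hθ : ∀ (k : ℕ) (y : E₀), (((θ ^ k) y : E₀) : L) = (φ ^ k) (y : L) := by
    intro k
    induction k with
    | zero => intro y; rfl
    | succ k ih =>
      intro y
      rw [pow_succ', MulAut.mul_apply, pow_succ', MulAut.mul_apply]
      show φ _ = _
      rw [ih]
  have hθ1 : θ = 1 := by
    obtain ⟨F, _, _, h5, h8, ⟨i⟩⟩ := h.psl
    refine rigidCent_congr i ((Odd.facts h8 h5).rigid (i ⟨e, he0⟩) ?_ ?_) θ ?_ ?_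
    · exact fun h' => he1 (congrArg Subtype.val (i.injective (h'.trans (map_one i).symm)))
    · rw [← map_mul, show (⟨e, he0⟩ : E₀) * ⟨e, he0⟩ = 1 from Subtype.ext hee, map_one]
    · exact hφ.of_dvd_nat (orderOf_dvd_of_pow_eq_one (MulEquiv.ext fun y => Subtype.ext (by
        rw [hθ, pow_orderOf_eq_one]; rfl)))
    · intro y hy
      exact Subtype.ext (hfe y y.2
        (congrArg Subtype.val (mem_centralizer_singleton_iff.1 hy)))
  have hE0 : Fixes φ E₀ := fun y hy => by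
    have e' : ((θ ⟨y, hy⟩ : E₀) : L) = ((1 : MulAut ↥E₀) ⟨y, hy⟩ : L) := by rw [hθ1]
    exact e' 
  intro x hx
  have hd : x⁻¹ * φ x ∈ centralizer (E₀ : Set L) := mem_centralizer_iff.2 fun y hy => by
    have h1 : x * y * x⁻¹ ∈ E₀ := h.conj_mem hx hy
    have h2 := hE0 _ h1
    rw [map_mul, map_mul, map_inv, hE0 y hy] at h2
    have h3 : φ x * y = x * y * x⁻¹ * φ x := by
      have := congrArg (· * φ x) h2
      simpa [mul_assoc] using this
    calc y * (x⁻¹ * φ x) = x⁻¹ * (x * y * x⁻¹ * φ x) := by group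
      _ = x⁻¹ * φ x * y := by rw [← h3]; group
  rcases h.eq_of_cent (mul_mem (inv_mem hx) (centralizer_invariant ht hx)) hd with e' | e'
  · exact (inv_mul_eq_one.1 e').symm
  · exfalso
    have hk : ∀ k : ℕ, (φ ^ k) x = x * t ^ k := by
      intro k
      induction k with
      | zero => simp
      | succ k ih =>
        rw [pow_succ', MulAut.mul_apply, ih, map_mul, map_pow, ht,
          show φ x = x * t by rw [← e', mul_inv_cancel_left], mul_assoc, ← pow_succ']
    have h1 := hk (orderOf φ)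
    obtain ⟨j, hj⟩ := hφ
    rw [pow_orderOf_eq_one, MulAut.one_apply, hj, pow_succ, pow_mul, pow_two, h.sq, one_pow,
      one_mul] at h1
    exact h.ne_one (left_eq_mul.1 h1)

end RData

variable [Finite L] [IsSimpleGroup L]

theorem not_sixteen (h8 : ∀ T : Sylow 2 L, Nat.card ↥(T : Subgroup L) = 8) :
    ¬ 16 ∣ Nat.card L := by
  intro hd
  haveI : Fact (Nat.Prime 2) := ⟨Nat.prime_two⟩
  obtain ⟨T⟩ : Nonempty (Sylow 2 L) := inferInstance
  have h := T.pow_dvd_card_of_pow_dvd_card (n := 4) (by norm_num; exact hd)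
  rw [h8 T] at h
  norm_num at h

theorem typeR_facts (hna : ¬ IsMulCommutative L) (hab : H10.Walter.AbSyl L)
    (hR : H10.Walter.IsTypeR L) :
    PieceFacts L ∧ ∀ v : L, v ≠ 1 → v * v = 1 → BalancedAt v := by
  haveI : Fact (Nat.Prime 2) := ⟨Nat.prime_two⟩
  obtain ⟨h8, hone, t, E, E₀, ht, hprod, hle, hn, hpsl, hcent⟩ := hR
  have h : RData t E E₀ := ⟨ht, hprod, hle, hn, hpsl, hcent⟩
  have h16 := not_sixteen h8
  have ho : ∀ v : L, v ≠ 1 → v * v = 1 → orderOf v = 2 := fun v hv1 hv =>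
    orderOf_eq_prime (by rw [pow_two, hv]) hv1
  have hdata : ∀ v : L, v ≠ 1 → v * v = 1 → ∃ E' E₀' : Subgroup L, RData v E' E₀' := by
    intro v hv1 hv
    obtain ⟨g, hg⟩ := isConj_iff.1 (hone t v ht (ho v hv1 hv))
    have h' := h.map (MulAut.conj g)
    rw [MulAut.conj_apply, hg] at h'
    exact ⟨_, _, h'⟩
  have hZ : center L = ⊥ := (IsSimpleGroup.eq_bot_or_eq_top_of_normal (center L) inferInstance).resolve_right
    fun e => hna ⟨⟨fun a b => ((mem_center_iff.1 (e ▸ mem_top a : a ∈ center L)) b).symm⟩⟩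
  have hbal : ∀ v : L, v ≠ 1 → v * v = 1 → BalancedAt v := fun v hv1 hv => by
    obtain ⟨E', E₀', h'⟩ := hdata v hv1 hv
    exact h'.balanced
  have helem : ∀ T : Sylow 2 L, ∀ x ∈ (T : Subgroup L), x * x = 1 := by
    intro T x hx
    obtain ⟨v, hv⟩ := exists_prime_orderOf_dvd_card' (G := ↥(T : Subgroup L)) 2
      (by rw [h8 T]; norm_num)
    rw [← Subgroup.orderOf_coe] at hv
    have hv1 : (v : L) ≠ 1 := fun e => by rw [e, orderOf_one] at hv; omega
    have hvv : (v : L) * v = 1 := by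
      have e := pow_orderOf_eq_one (v : L)
      rwa [hv, pow_two] at e
    obtain ⟨E', E₀', h'⟩ := hdata v hv1 hvv
    obtain ⟨k, hk⟩ := T.isPGroup' ⟨x, hx⟩
    exact h'.sq_two_element h16
      (mem_centralizer_singleton_iff.2 (hab.comm T.isPGroup' hx v.2).eq)
      (k := k) (by simpa using congrArg Subtype.val hk)
  have hrigid : ∀ v : L, v ≠ 1 → v * v = 1 → RigidCent v := by
    intro v hv1 hv φ hφ hfix
    obtain ⟨E', E₀', h'⟩ := hdata v hv1 hv
    obtain ⟨u, hu, hu1, hu2⟩ := h'.exists_involution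
    have huv : u ≠ v := by
      intro e
      have hcc : (⟨v, e ▸ hu⟩ : E₀') ∈ center ↥E₀' :=
        mem_center_iff.2 fun y => Subtype.ext (h'.t_comm y.2).symm
      rw [h'.simple₀.2, mem_bot] at hcc
      exact hv1 (congrArg Subtype.val hcc)
    obtain ⟨E'', E₀'', h''⟩ := hdata u hu1 hu2
    have hfu : Fixes φ (centralizer {u}) := h''.fixes_of_second h16 hφ hv hv1 huv.symm
      (mem_centralizer_singleton_iff.2 (h'.t_comm hu)) hfix
    obtain ⟨F, _, _, h5, hq, ⟨i⟩⟩ := h'.psl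
    obtain ⟨S⟩ : Nonempty (Sylow 2 L) := inferInstance
    have hmax : IsCoatom (centralizer ({v} : Set L)) :=
      Cfsg.Agent.S1245.result hna S (hab S) v (ho v hv1 hv) E' E₀' h'.prod h'.le h'.normal
        ⟨F, inferInstance, inferInstance, Odd.odd_card hq, ⟨i⟩⟩ h'.cent
    refine eq_one_of_generated hfix hfu (hmax.2 _ (lt_of_le_of_ne le_sup_left fun e => ?_))
    have hle' : centralizer ({u} : Set L) ≤ centralizer {v} := e ▸ le_sup_right
    obtain ⟨g, hg⟩ := isConj_iff.1 (hone u v (ho u hu1 hu2) (ho v hv1 hv))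
    have heq : centralizer ({u} : Set L) = centralizer {v} := eq_of_le_of_card_ge hle' (by
      rw [← hg, ← MulAut.conj_apply, ← centralizer_map,
        card_map_of_injective (MulAut.conj g).injective])
    have hcu : (⟨u, hu⟩ : E₀') ∈ center ↥E₀' := mem_center_iff.2 fun y => Subtype.ext
      (mem_centralizer_singleton_iff.1 (heq.symm ▸ h'.E_le (h'.le y.2)))
    rw [h'.simple₀.2, mem_bot] at hcu
    exact hu1 (congrArg Subtype.val hcu)
  exact ⟨⟨hZ, helem, fun u v hu1 hu hv1 hv => hone u v (ho u hu1 hu) (ho v hv1 hv), hrigid,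
    fun T => fixRigid_of_balanced (helem T) hZ hrigid hbal⟩, hbal⟩

end Cfsg.Agent.H50.Walter
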