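import Cfsg.Agent.H50.Walter.Good
import Cfsg.Agent.H50.Walter.PieceR

/-!
# The piece data of the simple groups of the classification
-/

set_option autoImplicit false
set_option linter.unusedSectionVars false
set_option linter.style.haveILetI false

namespace Cfsg.Agent.H50.Walter

open Subgroup Cfsg.Agent Cfsg.Agent.H88.Walter

universe u

variable {L : Type u} [Group L] {M : Type*} [Group M]

theorem normalizer_map_equiv (e : L ≃* M) (T : Subgroup L) :
    (normalizer (T : Set L)).map e.toMonoidHom = normalizer ((T.map e.toMonoidHom : Subgroup M) : Set M) :=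
  map_equiv_normalizer_eq T e

theorem conj_congr (e : L ≃* M) (c : L) :
    MulAut.conj (e c) = MulAut.congr e (MulAut.conj c) := by
  refine MulEquiv.ext fun y => ?_
  obtain ⟨x, rfl⟩ := e.surjective y
  simp [MulAut.congr]

theorem conj_mem_normalizer_congr (e : L ≃* M) {W : Subgroup (MulAut L)} {C : Subgroup L}
    (hn : ∀ c ∈ C, MulAut.conj c ∈ normalizer (W : Set (MulAut L))) :
    ∀ c ∈ C.map e.toMonoidHom,
      MulAut.conj c ∈ normalizer ((W.map (MulAut.congr e).toMonoidHom : Subgroup (MulAut M)) : Set (MulAut M)) := by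
  rintro _ ⟨c, hc, rfl⟩
  show MulAut.conj (e c) ∈ _
  rw [conj_congr e c, ← map_equiv_normalizer_eq W (MulAut.congr e)]
  exact mem_map_of_mem _ (hn c hc)

/-- A good piece passes along an isomorphism. -/
theorem goodPiece_congr [Finite L] [Finite M] (e : L ≃* M) {P : Subgroup L}
    (h : GoodPiece (P.map e.toMonoidHom)) : GoodPiece P where
  sq x hx := e.injective (by rw [map_mul, map_one]; exact h.sq _ ⟨x, hx, rfl⟩)
  four := by
    have := h.four
    rwa [card_map_of_injective e.injective] at this
  cyc := by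
    obtain ⟨y, hy, hk⟩ := h.cyc
    rw [← normalizer_map_equiv] at hy
    obtain ⟨y, hy', rfl⟩ := hy
    refine ⟨y, hy', fun x hx z hz hx1 hz1 => ?_⟩
    obtain ⟨k, hk'⟩ := hk _ ⟨x, hx, rfl⟩ _ ⟨z, hz, rfl⟩
      (fun e' => hx1 (e.injective (e'.trans (map_one e).symm)))
      (fun e' => hz1 (e.injective (e'.trans (map_one e).symm)))
    refine ⟨k, e.injective ?_⟩
    simpa using hk'
  fix x hx hx1 W hW hfix hn := by
    refine (map_eq_bot_iff_of_injective W (f := (MulAut.congr e).toMonoidHom)
      (MulAut.congr e).injective).1 (h.fix (e x) ⟨x, hx, rfl⟩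
        (fun e' => hx1 (e.injective (e'.trans (map_one e).symm))) _
        (by rwa [card_map_of_injective (MulAut.congr e).injective]) ?_ ?_)
    · rintro _ ⟨w, hw, rfl⟩
      exact fixes_congr e (hfix w hw)
    · rw [← centralizer_map e x]
      exact conj_mem_normalizer_congr e hn
  type := by
    refine h.type.imp (fun hu => ?_) fun hb x hx hx1 W hW hfix hn => ?_
    · obtain ⟨hcard, hcl⟩ := hu
      refine ⟨by rwa [card_map_of_injective e.injective] at hcard, ?_⟩
      apply map_injective (f := e.toMonoidHom) e.injective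
      rw [MonoidHom.map_closure, map_top_of_surjective _ e.surjective, ← hcl]
      congr 1
      ext z
      constructor
      · rintro ⟨w, hw | ⟨ho, v, hv, hv1, hc, s, hs, hinv⟩, rfl⟩
        · exact Or.inl ⟨w, hw, rfl⟩
        · refine Or.inr ⟨?_, e v, ⟨v, hv, rfl⟩,
            fun e' => hv1 (e.injective (e'.trans (map_one e).symm)), hc.map e.toMonoidHom,
            e s, ⟨s, hs, rfl⟩, ?_⟩
          · show Odd (orderOf (e w))
            rwa [e.orderOf_eq]
          · show e s * e w * (e s)⁻¹ = (e w)⁻¹
            rw [← map_inv, ← map_inv, ← map_mul, ← map_mul, hinv]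
      · intro hz
        obtain ⟨w, rfl⟩ := e.surjective z
        refine ⟨w, ?_, rfl⟩
        rcases hz with hz | ⟨ho, v, hv, hv1, hc, s, hs, hinv⟩
        · exact Or.inl ((mem_map_iff_mem (f := e.toMonoidHom) e.injective).1 hz)
        · obtain ⟨v, hv', rfl⟩ := hv
          obtain ⟨s, hs', rfl⟩ := hs
          refine Or.inr ⟨?_, v, hv', fun e' => hv1 (by simp [e']), ?_, s, hs', e.injective ?_⟩
          · rwa [e.orderOf_eq] at ho
          · exact e.injective (by rw [map_mul, map_mul]; exact hc.eq)
          · simpa using hinv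
    · refine (map_eq_bot_iff_of_injective W (f := (MulAut.congr e).toMonoidHom)
        (MulAut.congr e).injective).1 (hb (e x) ⟨x, hx, rfl⟩
          (fun e' => hx1 (e.injective (e'.trans (map_one e).symm))) _
          (by rwa [card_map_of_injective (MulAut.congr e).injective]) ?_ ?_)
      · rintro _ ⟨w, hw, rfl⟩
        show e (w (e.symm (e x))) = e x
        rw [e.symm_apply_apply, hfix w hw]
      · rw [← centralizer_map e x]
        exact conj_mem_normalizer_congr e hn

theorem good_congr [Finite L] [Finite M] (e : L ≃* M) (h : Good M) : Good L := by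
  intro T
  haveI : Fact (Nat.Prime 2) := ⟨Nat.prime_two⟩
  exact goodPiece_congr e (h (T.mapSurjective (f := e.toMonoidHom) e.surjective))

theorem good_typeR [Finite L] [IsSimpleGroup L] (hna : ¬ IsMulCommutative L)
    (hab : H10.Walter.AbSyl L) (hR : H10.Walter.IsTypeR L) : Good L := by
  haveI : Fact (Nat.Prime 7) := ⟨by norm_num⟩
  obtain ⟨h, hbal⟩ := typeR_facts hna hab hR
  intro T
  have h8 : Nat.card ↥(T : Subgroup L) = 8 := hR.1 T
  exact ⟨h.elem T, by omega,
    cyc_of_prime (p := 7) _ (by rw [card_punctured, h8])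
      (fun u hu v hv hu1 hv1 => h.trans T hu hu1 hv hv1),
    fun x hx hx1 => fixTrivialAt_of_fixRigid (h.fixRigid T) hx hx1,
    Or.inr fun x hx hx1 W hW hfix hn => eq_bot_of_balanced_cent (h.rigid x hx1 (h.elem T x hx))
      (hbal x hx1 (h.elem T x hx)) h.center_eq hW hfix hn⟩

/-- The piece data of the shapes. -/
theorem shapeData : ShapeData.{u} := by
  intro L _ _ hs hna hab hshape
  rcases hshape with ⟨F, _, _, n, hn, hq, ⟨i⟩⟩ | ⟨F, _, _, h5, h8, ⟨i⟩⟩ | hR
  · exact good_congr i (good_even n hn hq)
  · exact good_congr i (good_odd h8 h5)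
  · haveI := hs
    exact good_typeR hna hab hR

end Cfsg.Agent.H50.Walter
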