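import Cfsg.Agent.H50.Walter.Transport
import Cfsg.Agent.Linear.Dickson.Orders
import Cfsg.Agent.Linear.Simple

/-!
# Piece facts for `PSL(2, 2 ^ n)`
-/

set_option autoImplicit false
set_option linter.unusedSectionVars false
set_option linter.style.haveILetI false

namespace Cfsg.Agent.H50.Walter.Even

open Subgroup Cfsg.Agent Cfsg.Agent.Linear.Dickson Cfsg.Agent.H88.Walter

variable {F : Type*} [Field F] [Fintype F]

local notation "P2" => Matrix.ProjectiveSpecialLinearGroup (Fin 2) F
local notation "S2" => Matrix.SpecialLinearGroup (Fin 2) F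
local notation "M2" => Matrix (Fin 2) (Fin 2) F
local notation "Q" => cen (stdUni : P2)

local instance fact_two : Fact (Nat.Prime 2) := ⟨Nat.prime_two⟩

variable (n : ℕ) (hn : 2 ≤ n) (hq : Fintype.card F = 2 ^ n)

include hn hq in
theorem four_le : 4 ≤ Fintype.card F :=
  hq ▸ le_trans (by norm_num : 4 ≤ 2 ^ 2) (Nat.pow_le_pow_right (by norm_num) hn)

include hn hq in
theorem charTwo : CharP F 2 := by
  obtain ⟨p, hchar⟩ := CharP.exists F
  have hp := CharP.char_is_prime F p
  obtain ⟨k, -, hk⟩ := FiniteField.card F p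
  rw [hq] at hk
  have h2 : p = 2 := by
    have h1 : p ∣ 2 ^ n := hk.symm ▸ dvd_pow_self p k.ne_zero
    exact (Nat.prime_dvd_prime_iff_eq hp Nat.prime_two).1 (hp.dvd_of_dvd_pow h1)
  subst h2
  exact hchar

include hn hq in
theorem simple : IsSimpleGroup P2 :=
  Linear.isSimpleGroup_PSL_fin le_rfl fun _ => by
    rw [Nat.card_eq_fintype_card]; exact four_le n hn hq

include hn hq in
theorem nonabelian : ¬ IsMulCommutative P2 := fun h =>
  not_isSolvable_PSL (K := F) (by rw [Nat.card_eq_fintype_card]; exact four_le n hn hq)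
    (Group.isSolvable_of_comm h.is_comm.comm)

include hn hq in
theorem center_eq : center P2 = ⊥ := by
  haveI := simple (F := F) n hn hq
  refine (IsSimpleGroup.eq_bot_or_eq_top_of_normal (center P2) inferInstance).resolve_right
    fun e => nonabelian (F := F) n hn hq ⟨⟨fun a b => ((mem_center_iff.1 (e ▸ mem_top a :
      a ∈ center P2)) b).symm⟩⟩

include hn hq in
theorem isUni {v : P2} (hv1 : v ≠ 1) (hv : v * v = 1) : IsUni v := by
  haveI := charTwo n hn hq
  by_contra h
  have h1 : 2 ∣ Nat.card (cen v) := by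
    have := Subgroup.orderOf_dvd_natCard _ (mem_cen_self v)
    rwa [orderOf_eq_prime (by rw [pow_two, hv]) hv1] at this
  have h2 := coprime_card_cen 2 h
  exact h2 h1

include hn hq in
theorem sq_eq {x : P2} (hx : x ∈ Q) : x * x = 1 := by
  haveI := charTwo n hn hq
  rw [← pow_two]
  exact pow_char_eq_one_of_isUni 2 (isUni_of_mem_cen_stdUni hx)

include hn hq in
theorem centralizer_le {v : P2} (hvQ : v ∈ Q) (hv1 : v ≠ 1) : centralizer {v} ≤ Q := by
  haveI := charTwo n hn hq
  intro g hg
  rw [← cen_eq_of_mem stdUni_ne_one hv1 hvQ]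
  rw [mem_centralizer_singleton_iff] at hg
  obtain ⟨y, rfl⟩ := proj_surjective g
  obtain ⟨z, rfl⟩ := proj_surjective v
  rw [mem_cen_proj, mem_centralizer_singleton_iff]
  rw [← map_mul, ← map_mul, proj_eq_iff] at hg
  rcases hg with e | e
  · exact e.symm
  · rw [e]
    refine Subtype.ext ?_
    ext i j
    simp [CharTwo.neg_eq]

include hn hq in
theorem exists_sylow : ∃ T : Sylow 2 P2, (T : Subgroup P2) = Q := by
  haveI := charTwo n hn hq
  have hidx : ¬ 2 ∣ (Q : Subgroup P2).index := by
    have h := Linear.card_PSL_two_mul (F := F)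
    rw [← (Q : Subgroup P2).card_mul_index, card_cen_stdUni] at h
    have hd : Nat.gcd 2 (Fintype.card F - 1) = 1 := by
      have : ¬ 2 ∣ Fintype.card F - 1 := by
        have h4 : 2 ∣ Fintype.card F := hq ▸ dvd_pow_self 2 (by omega)
        have := four_le n hn hq
        omega
      exact (Nat.prime_two.coprime_iff_not_dvd).2 this
    rw [hd, one_mul] at h
    have h2 := Nat.eq_of_mul_eq_mul_left (Fintype.card_pos) h
    rw [h2]
    have : 2 ∣ Fintype.card F ^ 2 := dvd_pow (hq ▸ dvd_pow_self 2 (by omega)) two_ne_zero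
    have : 0 < Fintype.card F ^ 2 := pow_pos Fintype.card_pos 2
    omega
  exact ⟨(isPGroup_cen_stdUni 2).toSylow hidx, rfl⟩

include hn hq in
theorem elem (T : Sylow 2 P2) : ∀ x ∈ (T : Subgroup P2), x * x = 1 := by
  obtain ⟨T0, hT0⟩ := exists_sylow (F := F) n hn hq
  obtain ⟨g, rfl⟩ := MulAction.exists_smul_eq P2 T0 T
  intro x hx
  rw [Sylow.coe_subgroup_smul] at hx
  obtain ⟨y, hy, rfl⟩ := hx
  show g * y * g⁻¹ * (g * y * g⁻¹) = 1
  rw [show g * y * g⁻¹ * (g * y * g⁻¹) = g * (y * y) * g⁻¹ by group,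
    sq_eq n hn hq (hT0 ▸ hy : y ∈ Q), mul_one, mul_inv_cancel]

include hn hq in
theorem selfCent (T : Sylow 2 P2) : centralizer ((T : Subgroup P2) : Set P2) ≤ T := by
  obtain ⟨T0, hT0⟩ := exists_sylow (F := F) n hn hq
  obtain ⟨g, rfl⟩ := MulAction.exists_smul_eq P2 T0 T
  intro x hx
  rw [Sylow.coe_subgroup_smul] at hx ⊢
  refine ⟨g⁻¹ * x * g, hT0 ▸ centralizer_le n hn hq (mem_cen_self stdUni) stdUni_ne_one
    (mem_centralizer_singleton_iff.2 ?_), by
      show g * (g⁻¹ * x * g) * g⁻¹ = x
      group⟩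
  have h1 := mem_centralizer_iff.1 hx (g * stdUni * g⁻¹) ⟨stdUni, hT0 ▸ mem_cen_self stdUni, rfl⟩
  calc g⁻¹ * x * g * stdUni = g⁻¹ * (x * (g * stdUni * g⁻¹)) * g := by group
    _ = stdUni * (g⁻¹ * x * g) := by rw [← h1]; group

include hn hq in
theorem normalizer_eq : normalizer ((Q : Subgroup P2) : Set P2) = borel F :=
  le_antisymm (fun g hg => mem_borel_of_conj (mem_cen_self stdUni) stdUni_ne_one
    ((mem_normalizer_iff.1 hg _).1 (mem_cen_self stdUni))) borel_le_normalizer

include hn hq in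
theorem rigid_of_mem {v : P2} (hvQ : v ∈ Q) : RigidCent v := by
  haveI := simple (F := F) n hn hq
  exact rigidCent_of_cc (fun x hx => sq_eq n hn hq hx)
    (fun e => stdUni_ne_one (F := F) (by simpa [e] using mem_cen_self (stdUni : P2)))
    (fun w hw hw1 => centralizer_le n hn hq hw hw1)
    (by rw [normalizer_eq n hn hq, index_borel, card_cen_stdUni]) hvQ

include hn hq in
theorem rigid (v : P2) (hv1 : v ≠ 1) (hv : v * v = 1) : RigidCent v := by
  obtain ⟨g, hg⟩ := exists_conj_stdUni hv1 (isUni n hn hq hv1 hv)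
  exact rigidCent_congr (MulAut.conj g) (rigid_of_mem n hn hq hg)

include hn hq in
theorem balanced (v : P2) (hv1 : v ≠ 1) (hv : v * v = 1) : BalancedAt v := by
  obtain ⟨g, hg⟩ := exists_conj_stdUni hv1 (isUni n hn hq hv1 hv)
  refine balancedAt_congr (MulAut.conj g) (balancedAt_of_le (fun x hx => sq_eq n hn hq hx)
    (centralizer_le n hn hq hg fun e => hv1 ?_))
  have h := congrArg (fun y => g⁻¹ * y * g) e
  simpa [mul_assoc] using h

include hn hq in
theorem conj (u v : P2) (hu1 : u ≠ 1) (hu : u * u = 1) (hv1 : v ≠ 1) (hv : v * v = 1) :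
    IsConj u v := by
  haveI := simple (F := F) n hn hq
  have key : ∀ w : P2, w ≠ 1 → w * w = 1 → IsConj w (stdUni : P2) := by
    intro w hw1 hw
    obtain ⟨g, hg⟩ := exists_conj_stdUni hw1 (isUni n hn hq hw1 hw)
    set N := normalizer ((Q : Subgroup P2) : Set P2) with hN
    have hV : ∀ x ∈ (Q : Subgroup P2), x * x = 1 := fun x hx => sq_eq n hn hq hx
    have hcc : ∀ x ∈ (Q : Subgroup P2), x ≠ 1 → centralizer {x} ≤ Q := fun x hx hx1 =>
      centralizer_le n hn hq hx hx1
    have hne : g * w * g⁻¹ ≠ 1 := fun e => hw1 (by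
      have h := congrArg (fun y => g⁻¹ * y * g) e
      simpa [mul_assoc] using h)
    refine (isConj_iff.2 ⟨g, rfl⟩ : IsConj w (g * w * g⁻¹)).trans ?_
    -- the orbit of an element of `Q` under `N` has full size
    let f : ↥N ⧸ ((Q : Subgroup P2).subgroupOf N) → {x : ↥(Q : Subgroup P2) // x ≠ 1} := fun c =>
      Quotient.liftOn' c (fun m => ⟨⟨(m : P2) * (g * w * g⁻¹) * (m : P2)⁻¹,
        (mem_normalizer_iff.1 m.2 _).1 hg⟩, fun e => hne (by
          have h := congrArg (fun y : ↥(Q : Subgroup P2) => (m : P2)⁻¹ * (y : P2) * (m : P2)) e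
          simpa [mul_assoc] using h)⟩)
        fun a b hab => Subtype.ext (Subtype.ext (by
          rw [QuotientGroup.leftRel_apply, mem_subgroupOf] at hab
          have h1 : ((a⁻¹ * b : ↥N) : P2) * (g * w * g⁻¹) * ((a⁻¹ * b : ↥N) : P2)⁻¹ = g * w * g⁻¹ := by
            rw [(comm_of_elem hV hab hg).eq, mul_inv_cancel_right]
          simp only [Subgroup.coe_mul, Subgroup.coe_inv] at h1
          show (a : P2) * (g * w * g⁻¹) * (a : P2)⁻¹ = (b : P2) * (g * w * g⁻¹) * (b : P2)⁻¹
          generalize g * w * g⁻¹ = y at h1 ⊢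
          conv_lhs => rw [← h1]
          group))
    have hinj : Function.Injective f := by
      intro c d
      induction c using QuotientGroup.induction_on with | H a => ?_
      induction d using QuotientGroup.induction_on with | H b => ?_
      intro e
      have e' : (a : P2) * (g * w * g⁻¹) * (a : P2)⁻¹ = (b : P2) * (g * w * g⁻¹) * (b : P2)⁻¹ :=
        congrArg (fun y : {x : ↥(Q : Subgroup P2) // x ≠ 1} => ((y : ↥(Q : Subgroup P2)) : P2)) e
      refine QuotientGroup.eq.2 (mem_subgroupOf.2 (hcc _ hg hne (mem_centralizer_singleton_iff.2 ?_)))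
      rw [Subgroup.coe_mul, Subgroup.coe_inv]
      calc (a : P2)⁻¹ * b * (g * w * g⁻¹)
          = (a : P2)⁻¹ * ((b : P2) * (g * w * g⁻¹) * (b : P2)⁻¹) * b := by group
        _ = g * w * g⁻¹ * ((a : P2)⁻¹ * b) := by rw [← e']; group
    have hcard : Nat.card {x : ↥(Q : Subgroup P2) // x ≠ 1} ≤ Nat.card (↥N ⧸ ((Q : Subgroup P2).subgroupOf N)) := by
      classical
      haveI := Fintype.ofFinite ↥(Q : Subgroup P2)
      rw [Nat.card_eq_fintype_card, Fintype.card_subtype_compl, Fintype.card_subtype_eq,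
        ← Nat.card_eq_fintype_card, card_cen_stdUni]
      show _ ≤ (Q : Subgroup P2).relIndex N
      have h1 : ((Q : Subgroup P2).relIndex N) * N.index = (Q : Subgroup P2).index := relIndex_mul_index le_normalizer
      have h2 := (Q : Subgroup P2).card_mul_index
      rw [← h1, hN, normalizer_eq n hn hq, index_borel, card_cen_stdUni] at h2
      have hc := Linear.card_PSL_two_mul (F := F)
      rw [← h2] at hc
      have hg1 : Nat.gcd 2 (Fintype.card F - 1) = 1 := (Nat.prime_two.coprime_iff_not_dvd).2 (by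
        have h4 : 2 ∣ Fintype.card F := hq ▸ dvd_pow_self 2 (by omega)
        have := four_le n hn hq
        omega)
      rw [hg1, one_mul] at hc
      have h3 := Nat.eq_of_mul_eq_mul_left Fintype.card_pos hc
      rw [show Fintype.card F ^ 2 - 1 = (Fintype.card F - 1) * (Fintype.card F + 1) by
        rw [mul_comm]; simpa using Nat.sq_sub_sq (Fintype.card F) 1] at h3
      rw [hN, normalizer_eq n hn hq]
      exact (Nat.eq_of_mul_eq_mul_right (Nat.succ_pos _) h3).ge
    obtain ⟨c, hc⟩ := (hinj.bijective_of_nat_card_le hcard).2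
      ⟨⟨stdUni, mem_cen_self _⟩, fun e => stdUni_ne_one (congrArg Subtype.val e)⟩
    induction c using QuotientGroup.induction_on with | H a => ?_
    exact isConj_iff.2 ⟨(a : P2), congrArg (fun y : {x : ↥(Q : Subgroup P2) // x ≠ 1} =>
      ((y : ↥(Q : Subgroup P2)) : P2)) hc⟩
  exact (key u hu1 hu).trans (key v hv1 hv).symm

include hn hq in
theorem facts : PieceFacts P2 where
  center_eq := center_eq n hn hq
  elem := elem n hn hq
  conj := conj n hn hq
  rigid := rigid n hn hq
  fixRigid T := fixRigid_of_selfCent (elem n hn hq T) (selfCent n hn hq T) (center_eq n hn hq)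
    (rigid n hn hq)

end Cfsg.Agent.H50.Walter.Even
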