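import Cfsg.Agent.H50.Walter.PieceOdd
import Cfsg.Agent.H50.Walter.PieceEven
import Cfsg.Agent.H88.Walter.Data

/-!
# `GoodPiece` for the two `PSL(2, q)` families
-/

set_option autoImplicit false
set_option linter.unusedSectionVars false
set_option linter.style.haveILetI false

namespace Cfsg.Agent.H50.Walter

open Subgroup Cfsg.Agent Cfsg.Agent.H88.Walter

universe u

variable {L : Type*} [Group L]

/-- Every Sylow 2-subgroup is a good piece. -/
def Good (L : Type*) [Group L] : Prop :=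
  ∀ T : Sylow 2 L, GoodPiece (T : Subgroup L)

/-- A transitive normaliser with a prime number of involutions has a transitive cyclic part. -/
theorem cyc_of_prime [Finite L] (T : Subgroup L) {p : ℕ} [Fact p.Prime]
    (hcard : Nat.card {x : T // x ≠ 1} = p)
    (htr : ∀ u ∈ T, ∀ v ∈ T, u ≠ 1 → v ≠ 1 →
      ∃ n ∈ normalizer (T : Set L), n * u * n⁻¹ = v) :
    ∃ y ∈ normalizer (T : Set L), ∀ x ∈ T, ∀ z ∈ T, x ≠ 1 → z ≠ 1 →
      ∃ k : ℕ, y ^ k * x * (y ^ k)⁻¹ = z := by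
  classical
  set X := {x : T // x ≠ 1}
  haveI : Fintype X := Fintype.ofFinite X
  let act : ↥(normalizer (T : Set L)) →* Equiv.Perm X := MonoidHom.mk'
    (fun n => Equiv.ofBijective
      (fun x => ⟨⟨(n : L) * ((x.1 : T) : L) * (n : L)⁻¹, (mem_normalizer_iff.1 n.2 _).1 x.1.2⟩,
        fun e => x.2 (Subtype.ext (by simpa [_root_.conj_eq_one_iff] using congrArg Subtype.val e))⟩)
      (Finite.injective_iff_bijective.1 fun a b e => Subtype.ext (Subtype.ext (by
        simpa using congrArg (fun y : X => ((y.1 : T) : L)) e))))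
    (fun a b => by
      refine Equiv.ext fun x => Subtype.ext (Subtype.ext ?_)
      simp [mul_assoc])
  have hact : ∀ n x, (((act n x).1 : T) : L) = (n : L) * ((x.1 : T) : L) * (n : L)⁻¹ :=
    fun _ _ => rfl
  have hne : Nonempty X := by
    rw [← Finite.card_pos_iff, hcard]; exact (Fact.out : p.Prime).pos
  obtain ⟨x0⟩ := hne
  have hsurj : ∀ x : X, ∃ σ : act.range, σ • x0 = x := fun x => by
    obtain ⟨m, hm, hmx⟩ := htr _ x0.1.2 _ x.1.2 (fun e => x0.2 (Subtype.ext e))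
      (fun e => x.2 (Subtype.ext e))
    exact ⟨⟨act ⟨m, hm⟩, ⟨_, rfl⟩⟩, Subtype.ext (Subtype.ext hmx)⟩
  have hdvd : p ∣ Nat.card act.range := by
    refine ⟨Nat.card (MulAction.stabilizer act.range x0), ?_⟩
    rw [← hcard, ← Nat.card_congr (MulAction.orbitProdStabilizerEquivGroup act.range x0),
      Nat.card_prod]
    congr 1
    exact Nat.card_congr ((Equiv.subtypeUnivEquiv fun x => hsurj x).trans (Equiv.refl X))
  obtain ⟨⟨σ, n, hσn⟩, hσ⟩ := exists_prime_orderOf_dvd_card' (G := act.range) p hdvd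
  have hσo : orderOf σ = p :=
    (Subgroup.orderOf_coe (⟨σ, n, hσn⟩ : act.range)).trans hσ
  refine ⟨n, n.2, fun x hx z hz hx1 hz1 => ?_⟩
  have hcyc : σ.IsCycle := Equiv.Perm.isCycle_of_prime_order'' (by
    rw [← Nat.card_eq_fintype_card, hcard]; exact Fact.out)
    (by rw [← Nat.card_eq_fintype_card, hcard, hσo])
  have hsupp : σ.support = Finset.univ := by
    rw [← Finset.card_eq_iff_eq_univ, ← hcyc.orderOf, hσo, ← Nat.card_eq_fintype_card, hcard]
  obtain ⟨k, hk⟩ := hcyc.exists_pow_eq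
    (Equiv.Perm.mem_support.1 (hsupp ▸ Finset.mem_univ (⟨⟨x, hx⟩, fun e => hx1 (congrArg Subtype.val e)⟩ : X)))
    (Equiv.Perm.mem_support.1 (hsupp ▸ Finset.mem_univ (⟨⟨z, hz⟩, fun e => hz1 (congrArg Subtype.val e)⟩ : X)))
  refine ⟨k, ?_⟩
  have h := congrArg (fun y : X => ((y.1 : T) : L)) hk
  simp only [← hσn, ← map_pow, hact] at h
  simpa using h

section Congr

variable {M : Type*} [Group M]

theorem fixTrivialAt_of_fixRigid {T : Subgroup L} (h : FixRigid T) {x : L} (hx : x ∈ T)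
    (hx1 : x ≠ 1) : FixTrivialAt T x :=
  h x hx hx1

end Congr

section Odd

variable {F : Type} [Field F] [Fintype F]

local notation "P2" => Matrix.ProjectiveSpecialLinearGroup (Fin 2) F

theorem card_punctured [Finite L] (T : Subgroup L) :
    Nat.card {x : T // x ≠ 1} = Nat.card T - 1 := by
  classical
  haveI := Fintype.ofFinite T
  rw [Nat.card_eq_fintype_card, Fintype.card_subtype_compl, Fintype.card_subtype_eq,
    ← Nat.card_eq_fintype_card]

theorem unbal_odd (h8 : Fintype.card F % 8 = 3 ∨ Fintype.card F % 8 = 5)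
    (h11 : 11 ≤ Fintype.card F) (T : Sylow 2 P2) : Unbal (T : Subgroup P2) := by
  have h5 : 5 ≤ Fintype.card F := by omega
  have hodd := Odd.odd_card h8
  have hcard := Odd.card_sylow h8 (Odd.even_card h8) T
  refine ⟨hcard, top_le_iff.1 ?_⟩
  obtain ⟨v, hvT, hv1⟩ := (T : Subgroup P2).bot_or_exists_ne_one.resolve_left fun e => by
    rw [e, Subgroup.card_bot] at hcard; omega
  obtain ⟨u, huT, hu1, huv⟩ := Odd.exists_other hcard hv1
  have hsq := Odd.elem h8 T
  have hc : Commute u v := comm_of_elem hsq huT hvT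
  have htor : ∀ a b : P2, a ∈ (T : Subgroup P2) → b ∈ (T : Subgroup P2) → a ≠ 1 → b ≠ 1 → b ≠ a →
      H88.Walter.PSL.torus a ≤ closure (((T : Subgroup P2) : Set P2) ∪ invSet (T : Subgroup P2)) := by
    intro a b ha hb ha1 hb1 hba y hy
    obtain ⟨hTo, -, -, -⟩ := H88.Walter.PSL.torus_props h8 h11 ha1 (hsq a ha)
    obtain ⟨-, hinv⟩ := H88.Walter.PSL.inverts hodd ha1 (hsq a ha) (comm_of_elem hsq hb ha)
      (hsq b hb) hb1 hba
    refine subset_closure (Or.inr ⟨hTo.of_dvd_nat (Subgroup.orderOf_dvd_natCard _ hy), a, ha, ha1, ?_,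
      b, hb, hinv y (H88.Walter.PSL.torus_le a hy)⟩)
    exact Linear.Dickson.cen_comm ha1 (H88.Walter.PSL.torus_le a hy)
      (Linear.Dickson.mem_cen_self a)
  rw [← H88.Walter.PSL.generated h8 h11 hv1 (hsq v hvT) hc (hsq u huT) hu1 huv]
  refine sup_le (sup_le (htor v u hvT huT hv1 hu1 huv) (htor u v huT hvT hu1 hv1 huv.symm)) ?_
  refine (closure_le _).2 ?_
  rintro y (rfl | rfl) <;> exact subset_closure (Or.inl ‹_›)

theorem good_odd (h8 : Fintype.card F % 8 = 3 ∨ Fintype.card F % 8 = 5)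
    (h5 : 5 ≤ Fintype.card F) : Good P2 := by
  intro T
  have h := Odd.facts (F := F) h8 h5
  have hcard := Odd.card_sylow h8 (Odd.even_card h8) T
  haveI : Fact (Nat.Prime 3) := ⟨Nat.prime_three⟩
  refine ⟨h.elem T, hcard.ge, cyc_of_prime (p := 3) _ (by rw [card_punctured, hcard])
    (fun u hu v hv hu1 hv1 => h.trans T hu hu1 hv hv1),
    fun x hx hx1 => fixTrivialAt_of_fixRigid (h.fixRigid T) hx hx1, ?_⟩
  by_cases h11 : 11 ≤ Fintype.card F
  · exact Or.inl (unbal_odd h8 h11 T)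
  · refine Or.inr fun x hx hx1 W hW hfix hn => ?_
    exact eq_bot_of_balanced_cent (h.rigid x hx1 (h.elem T x hx))
      (Odd.balanced_of_five h8 (by omega) x hx1 (h.elem T x hx)) h.center_eq hW hfix hn

end Odd

section Even

variable {F : Type} [Field F] [Fintype F]

local notation "P2" => Matrix.ProjectiveSpecialLinearGroup (Fin 2) F

open Linear.Dickson in
/-- The normaliser of a Sylow 2-subgroup of `PSL(2, 2 ^ n)` acts on it cyclically. -/
theorem cyc_even (n : ℕ) (hn : 2 ≤ n) (hq : Fintype.card F = 2 ^ n) (T : Sylow 2 P2) :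
    ∃ y ∈ normalizer ((T : Subgroup P2) : Set P2), ∀ x ∈ (T : Subgroup P2), ∀ z ∈ (T : Subgroup P2),
      x ≠ 1 → z ≠ 1 → ∃ k : ℕ, y ^ k * x * (y ^ k)⁻¹ = z := by
  haveI : Fact (Nat.Prime 2) := ⟨Nat.prime_two⟩
  have h := Even.facts (F := F) n hn hq
  obtain ⟨T0, hT0⟩ := Even.exists_sylow (F := F) n hn hq
  obtain ⟨g, rfl⟩ := MulAction.exists_smul_eq P2 T0 T
  obtain ⟨χ, hχ⟩ := exists_diagonal_hom (F := F)
  haveI : IsCyclic χ.range := inferInstance
  obtain ⟨⟨c, b, hbc⟩, hgen⟩ := IsCyclic.exists_generator (α := χ.range)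
  refine ⟨g * (b : P2) * g⁻¹, ?_, ?_⟩
  · rw [Sylow.coe_subgroup_smul, hT0]
    refine mem_normalizer_iff.2 fun y => ?_
    have hb : (b : P2) ∈ normalizer ((cen (stdUni : P2) : Subgroup P2) : Set P2) :=
      borel_le_normalizer b.2
    simp only [mem_pointwise_smul_iff_inv_smul_mem, ← map_inv, MulAut.smul_def, MulAut.conj_apply,
      inv_inv]
    rw [show g⁻¹ * (g * (b : P2) * g⁻¹ * y * (g * (b : P2) * g⁻¹)⁻¹) * g =
      (b : P2) * (g⁻¹ * y * g) * (b : P2)⁻¹ by group]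
    exact mem_normalizer_iff.1 hb _
  · intro x hx z hz hx1 hz1
    rw [Sylow.coe_subgroup_smul] at hx hz
    obtain ⟨x0, hx0, rfl⟩ := hx
    obtain ⟨z0, hz0, rfl⟩ := hz
    obtain ⟨m, hm, hmx⟩ := h.trans T0 hx0 (fun e => hx1 (by simp [e])) hz0
      (fun e => hz1 (by simp [e]))
    rw [hT0, Even.normalizer_eq n hn hq] at hm
    obtain ⟨k, hk⟩ := Submonoid.mem_powers_iff _ _ |>.1
      (mem_powers_iff_mem_zpowers.2 (hgen ⟨χ ⟨m, hm⟩, ⟨_, rfl⟩⟩))
    refine ⟨k, ?_⟩
    have hker : (⟨m, hm⟩⁻¹ * b ^ k : borel F).1 ∈ cen (stdUni : P2) := by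
      refine (hχ _).1 ?_
      have hk' : c ^ k = χ ⟨m, hm⟩ := by simpa using congrArg Subtype.val hk
      rw [map_mul, map_inv, map_pow, hbc, hk', inv_mul_cancel]
    have hcomm := comm_of_elem (fun y hy => Even.sq_eq n hn hq hy) hker (hT0 ▸ hx0)
    simp only [Subgroup.coe_mul, Subgroup.coe_inv, SubmonoidClass.coe_pow] at hcomm
    show (g * (b : P2) * g⁻¹) ^ k * (g * x0 * g⁻¹) * ((g * (b : P2) * g⁻¹) ^ k)⁻¹ = g * z0 * g⁻¹
    rw [conj_pow, ← hmx]
    have h2 : (b : P2) ^ k * x0 * ((b : P2) ^ k)⁻¹ = m * x0 * m⁻¹ := by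
      have h3 := hcomm.eq
      calc (b : P2) ^ k * x0 * ((b : P2) ^ k)⁻¹
          = m * (m⁻¹ * (b : P2) ^ k * x0) * ((b : P2) ^ k)⁻¹ := by group
        _ = m * x0 * m⁻¹ := by rw [h3]; group
    rw [← h2]
    group

theorem good_even (n : ℕ) (hn : 2 ≤ n) (hq : Fintype.card F = 2 ^ n) : Good P2 := by
  intro T
  haveI : Fact (Nat.Prime 2) := ⟨Nat.prime_two⟩
  have h := Even.facts (F := F) n hn hq
  refine ⟨h.elem T, ?_, cyc_even n hn hq T,
    fun x hx hx1 => fixTrivialAt_of_fixRigid (h.fixRigid T) hx hx1,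
    Or.inr fun x hx hx1 W hW hfix hn' => eq_bot_of_balanced_cent (h.rigid x hx1 (h.elem T x hx))
      (Even.balanced n hn hq x hx1 (h.elem T x hx)) h.center_eq hW hfix hn'⟩
  obtain ⟨T0, hT0⟩ := Even.exists_sylow (F := F) n hn hq
  rw [T.card_eq_multiplicity, ← T0.card_eq_multiplicity, hT0, Linear.Dickson.card_cen_stdUni]
  exact Even.four_le n hn hq

end Even

end Cfsg.Agent.H50.Walter
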