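import Cfsg.Agent.H88.Walter.Piece
import Cfsg.Agent.Fusion.Basic

/-!
# Piece facts: the interface and the setting-free lemmas

`RigidCent v`: an odd automorphism fixing `C(v)` pointwise is trivial.  This does not ask for
self-centralising Sylow subgroups, so it also serves groups of type R.
-/

set_option autoImplicit false
set_option linter.unusedSectionVars false
set_option linter.style.haveILetI false

namespace Cfsg.Agent.H50.Walter

open Subgroup Cfsg.Agent.H88.Walter

variable {L : Type*} [Group L]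

/-- An odd automorphism fixing `C(v)` pointwise is trivial. -/
def RigidCent (v : L) : Prop :=
  ∀ φ : MulAut L, Odd (orderOf φ) → Fixes φ (centralizer {v}) → φ = 1

/-- Odd groups of automorphisms fixing a Sylow 2-subgroup `T` pointwise and normalised by the
centraliser of an involution of `T` are trivial. -/
def FixRigid (T : Subgroup L) : Prop :=
  ∀ v ∈ T, v ≠ 1 → ∀ W : Subgroup (MulAut L), Odd (Nat.card W) → (∀ w ∈ W, Fixes w T) →
    (∀ c ∈ centralizer {v}, MulAut.conj c ∈ normalizer (W : Set (MulAut L))) → W = ⊥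

/-- The facts used about a simple piece. -/
structure PieceFacts (L : Type*) [Group L] : Prop where
  center_eq : center L = ⊥
  elem : ∀ T : Sylow 2 L, ∀ x ∈ (T : Subgroup L), x * x = 1
  conj : ∀ u v : L, u ≠ 1 → u * u = 1 → v ≠ 1 → v * v = 1 → IsConj u v
  rigid : ∀ v : L, v ≠ 1 → v * v = 1 → RigidCent v
  fixRigid : ∀ T : Sylow 2 L, FixRigid (T : Subgroup L)

theorem comm_of_elem {V : Subgroup L} (hV : ∀ x ∈ V, x * x = 1) {a b : L} (ha : a ∈ V)
    (hb : b ∈ V) : Commute a b := by
  have h1 : a⁻¹ = a := inv_eq_of_mul_eq_one_right (hV a ha)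
  have h2 : b⁻¹ = b := inv_eq_of_mul_eq_one_right (hV b hb)
  have h3 := hV (a * b) (mul_mem ha hb)
  show a * b = b * a
  calc a * b = (a * b)⁻¹ := (inv_eq_of_mul_eq_one_right h3).symm
    _ = b * a := by rw [mul_inv_rev, h1, h2]

theorem le_centralizer_of_elem {V : Subgroup L} (hV : ∀ x ∈ V, x * x = 1) {v : L} (hv : v ∈ V) :
    V ≤ centralizer {v} :=
  fun _ hx => mem_centralizer_singleton_iff.2 (comm_of_elem hV hx hv).eq

/-- The normaliser of a Sylow 2-subgroup is transitive on its involutions. -/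
theorem PieceFacts.trans [Finite L] (h : PieceFacts L) (T : Sylow 2 L) {u v : L}
    (hu : u ∈ (T : Subgroup L)) (hu1 : u ≠ 1) (hv : v ∈ (T : Subgroup L)) (hv1 : v ≠ 1) :
    ∃ n ∈ normalizer ((T : Subgroup L) : Set L), n * u * n⁻¹ = v := by
  haveI : Fact (Nat.Prime 2) := ⟨Nat.prime_two⟩
  obtain ⟨g, hg⟩ := isConj_iff.1 (h.conj u v hu1 (h.elem T u hu) hv1 (h.elem T v hv))
  have hc : ∀ x ∈ (T : Subgroup L), x ∈ centralizer ((T : Subgroup L) : Set L) := fun x hx =>
    mem_centralizer_iff.2 fun y hy => (comm_of_elem (h.elem T) hy hx).eq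
  obtain ⟨n, hn, hn'⟩ :=
    Cfsg.Agent.Fusion.burnside_fusion_centralizer T (hc u hu) (g := g) (hg ▸ hc v hv)
  exact ⟨n, hn, hn'.trans hg⟩

theorem innerPart_normalised {W : Subgroup (MulAut L)} {v : L}
    (hn : ∀ c ∈ centralizer {v}, MulAut.conj c ∈ normalizer (W : Set (MulAut L))) :
    centralizer {v} ≤ normalizer ((innerPart W ⊓ centralizer {v} : Subgroup L) : Set L) := by
  intro c hc
  refine mem_normalizer_iff.2 fun x => ?_
  have hcx : c * x * c⁻¹ ∈ innerPart W ↔ x ∈ innerPart W := by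
    rw [mem_innerPart, mem_innerPart, map_mul, map_mul, map_inv]
    exact (mem_normalizer_iff.1 (hn c hc) _).symm
  have hcc : c * x * c⁻¹ ∈ centralizer {v} ↔ x ∈ centralizer {v} :=
    ⟨fun h => by simpa [mul_assoc] using mul_mem (mul_mem (inv_mem hc) h) hc,
      fun h => mul_mem (mul_mem hc h) (inv_mem hc)⟩
  exact ⟨fun h => ⟨hcx.2 h.1, hcc.2 h.2⟩, fun h => ⟨hcx.1 h.1, hcc.1 h.2⟩⟩

/-- An odd group of automorphisms fixing `v`, normalised by `C(v)`, whose inner part in `C(v)` is
trivial, is trivial. -/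
theorem eq_bot_of_innerPart_cent [Finite L] {v : L} (hR : RigidCent v)
    {W : Subgroup (MulAut L)} (hW : Odd (Nat.card W)) (hv : ∀ w ∈ W, w v = v)
    (hn : ∀ c ∈ centralizer {v}, MulAut.conj c ∈ normalizer (W : Set (MulAut L)))
    (h0 : innerPart W ⊓ centralizer {v} = ⊥) : W = ⊥ := by
  rw [eq_bot_iff]
  intro w hw
  exact mem_bot.2 (hR w (hW.of_dvd_nat (Subgroup.orderOf_dvd_natCard W hw))
    (fixes_centralizer_of_innerPart hn h0 (fun w hw c hc => centralizer_invariant (hv w hw) hc) hw))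

/-- Balanced pieces: an odd group of automorphisms fixing `v` and normalised by `C(v)` is
trivial. -/
theorem eq_bot_of_balanced_cent [Finite L] {v : L} (hR : RigidCent v) (hbal : BalancedAt v)
    (hZ : center L = ⊥) {W : Subgroup (MulAut L)} (hW : Odd (Nat.card W))
    (hv : ∀ w ∈ W, w v = v)
    (hn : ∀ c ∈ centralizer {v}, MulAut.conj c ∈ normalizer (W : Set (MulAut L))) : W = ⊥ :=
  eq_bot_of_innerPart_cent hR hW hv hn (hbal _ inf_le_right
    ((odd_card_innerPart hZ hW).of_dvd_nat (card_dvd_of_le inf_le_left)) (innerPart_normalised hn))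

/-- The inner part of a group fixing `V` pointwise is trivial if `V` is self-centralising. -/
theorem innerPart_eq_bot_of_fixes [Finite L] {V : Subgroup L} (hV : ∀ x ∈ V, x * x = 1)
    (hC : centralizer (V : Set L) ≤ V) (hZ : center L = ⊥)
    {W : Subgroup (MulAut L)} (hW : Odd (Nat.card W)) (hfix : ∀ w ∈ W, Fixes w V) :
    innerPart W = ⊥ := by
  rw [eq_bot_iff]
  intro x hx
  have hxC : x ∈ centralizer (V : Set L) := mem_centralizer_iff.2 fun u hu => by
    have := hfix _ hx u hu
    rw [MulAut.conj_apply, mul_inv_eq_iff_eq_mul] at this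
    exact this.symm
  refine mem_bot.2 (orderOf_eq_one_iff.1 (Nat.eq_one_of_dvd_coprimes
    (Nat.coprime_two_left.2 (odd_card_innerPart hZ hW))
    (orderOf_dvd_of_pow_eq_one (by rw [pow_two, hV x (hC hxC)]))
    (Subgroup.orderOf_dvd_natCard _ hx)))

theorem fixRigid_of_selfCent [Finite L] {T : Subgroup L} (hV : ∀ x ∈ T, x * x = 1)
    (hC : centralizer (T : Set L) ≤ T) (hZ : center L = ⊥)
    (hR : ∀ v : L, v ≠ 1 → v * v = 1 → RigidCent v) : FixRigid T :=
  fun v hv hv1 W hW hfix hn => eq_bot_of_innerPart_cent (hR v hv1 (hV v hv)) hW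
    (fun w hw => hfix w hw v hv) hn
    (by rw [innerPart_eq_bot_of_fixes hV hC hZ hW hfix, bot_inf_eq])

theorem fixRigid_of_balanced [Finite L] {T : Subgroup L} (hV : ∀ x ∈ T, x * x = 1)
    (hZ : center L = ⊥) (hR : ∀ v : L, v ≠ 1 → v * v = 1 → RigidCent v)
    (hbal : ∀ v : L, v ≠ 1 → v * v = 1 → BalancedAt v) : FixRigid T :=
  fun v hv hv1 _ hW hfix hn => eq_bot_of_balanced_cent (hR v hv1 (hV v hv)) (hbal v hv1 (hV v hv))
    hZ hW (fun w hw => hfix w hw v hv) hn

/-- A centraliser which is a 2-group is balanced. -/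
theorem balancedAt_of_le [Finite L] {V : Subgroup L} (hV : ∀ x ∈ V, x * x = 1) {v : L}
    (hC : centralizer {v} ≤ V) : BalancedAt v := by
  intro X hX hodd _
  rw [eq_bot_iff]
  intro x hx
  exact mem_bot.2 (orderOf_eq_one_iff.1 (Nat.eq_one_of_dvd_coprimes (Nat.coprime_two_left.2 hodd)
    (orderOf_dvd_of_pow_eq_one (by rw [pow_two, hV x (hC (hX hx))]))
    (Subgroup.orderOf_dvd_natCard _ hx)))

section TI

variable [Finite L] {V : Subgroup L}

/-- An involution normalising a TI 2-subgroup `V` which is the centraliser of each of its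
non-identity elements lies in it. -/
theorem mem_of_normalises (hV : ∀ x ∈ V, x * x = 1) (hne : V ≠ ⊥)
    (hcc : ∀ v ∈ V, v ≠ 1 → centralizer {v} ≤ V) {w : L} (hw : w * w = 1)
    (hn : w ∈ normalizer (V : Set L)) : w ∈ V := by
  obtain ⟨x, hx, hx1⟩ := V.bot_or_exists_ne_one.resolve_left hne
  have hwi : w⁻¹ = w := inv_eq_of_mul_eq_one_right hw
  have hx' : w * x * w⁻¹ ∈ V := (mem_normalizer_iff.1 hn x).1 hx
  by_cases e : x * (w * x * w⁻¹) = 1
  · have hxx : w * x * w⁻¹ = x :=
      (eq_inv_of_mul_eq_one_right e).trans (inv_eq_of_mul_eq_one_right (hV x hx))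
    exact hcc x hx hx1 (mem_centralizer_singleton_iff.2 (mul_inv_eq_iff_eq_mul.1 hxx))
  · refine hcc _ (mul_mem hx hx') e (mem_centralizer_singleton_iff.2 ?_)
    have hc := (comm_of_elem hV hx hx').eq
    calc w * (x * (w * x * w⁻¹))
        = w * x * w⁻¹ * (w * (w * x * w⁻¹) * w⁻¹) * w := by group
      _ = w * x * w⁻¹ * x * w := by
          have : w * (w * x * w⁻¹) * w⁻¹ = x := by
            rw [show w * (w * x * w⁻¹) * w⁻¹ = w * w * x * (w * w)⁻¹ by group, hw]
            group
          rw [this]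
      _ = x * (w * x * w⁻¹) * w := by rw [hc]

/-- `V` is regular on the other cosets of its normaliser. -/
theorem trans_of_cc (hV : ∀ x ∈ V, x * x = 1) (hne : V ≠ ⊥)
    (hcc : ∀ v ∈ V, v ≠ 1 → centralizer {v} ≤ V)
    (hidx : (normalizer (V : Set L)).index = Nat.card V + 1) :
    ∀ g h : L, g ∉ normalizer (V : Set L) → h ∉ normalizer (V : Set L) →
      ∃ v ∈ V, (v * g)⁻¹ * h ∈ normalizer (V : Set L) := by
  intro g h hg hh
  set N := normalizer (V : Set L) with hN
  let f : V → {c : L ⧸ N // c ≠ ((1 : L) : L ⧸ N)} := fun v =>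
    ⟨(((v : L) * g : L) : L ⧸ N), fun e => hg (by
      have h1 := QuotientGroup.eq.1 e
      rw [mul_one, inv_mem_iff] at h1
      have h2 := N.mul_mem (inv_mem (le_normalizer v.2 : (v : L) ∈ N)) h1
      rwa [inv_mul_cancel_left] at h2)⟩
  have hinj : Function.Injective f := by
    intro a b e
    by_contra hab
    have h1 : ((a : L) * g)⁻¹ * ((b : L) * g) ∈ N := QuotientGroup.eq.1 (congrArg Subtype.val e)
    set u := (a : L)⁻¹ * b with hu
    have huV : u ∈ V := mul_mem (inv_mem a.2) b.2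
    have hu1 : u ≠ 1 := fun h => hab (Subtype.ext (inv_mul_eq_one.1 h))
    have h2 : g⁻¹ * u * g ∈ N := by
      rw [show g⁻¹ * u * g = ((a : L) * g)⁻¹ * ((b : L) * g) by rw [hu]; group]
      exact h1
    have h3 : g⁻¹ * u * g ∈ V := mem_of_normalises hV hne hcc (by
      rw [show g⁻¹ * u * g * (g⁻¹ * u * g) = g⁻¹ * (u * u) * g by group, hV u huV]; group) h2
    have hle : V.map (MulAut.conj g).toMonoidHom ≤ V := by
      rintro _ ⟨x, hx, rfl⟩
      refine hcc u huV hu1 (mem_centralizer_singleton_iff.2 ?_)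
      show g * x * g⁻¹ * u = u * (g * x * g⁻¹)
      calc g * x * g⁻¹ * u = g * (x * (g⁻¹ * u * g)) * g⁻¹ := by group
        _ = g * (g⁻¹ * u * g * x) * g⁻¹ := by rw [(comm_of_elem hV hx h3).eq]
        _ = u * (g * x * g⁻¹) := by group
    have heq : V.map (MulAut.conj g).toMonoidHom = V := eq_of_le_of_card_ge hle
      (by rw [card_map_of_injective (MulAut.conj g).injective])
    refine hg (mem_normalizer_iff.2 fun x => ⟨fun hx => heq ▸ ⟨x, hx, rfl⟩, fun hx => ?_⟩)
    rw [← heq] at hx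
    obtain ⟨y, hy, hyx⟩ := hx
    have hyx' : g * y * g⁻¹ = g * x * g⁻¹ := hyx
    rwa [mul_right_cancel hyx' |> mul_left_cancel |>.symm]
  haveI : Finite (L ⧸ N) := inferInstance
  have hcard : Nat.card {c : L ⧸ N // c ≠ ((1 : L) : L ⧸ N)} = Nat.card V := by
    classical
    haveI := Fintype.ofFinite (L ⧸ N)
    rw [Nat.card_eq_fintype_card, Fintype.card_subtype_compl, Fintype.card_subtype_eq,
      ← Nat.card_eq_fintype_card]
    show N.index - 1 = _
    omega
  obtain ⟨v, hv⟩ := (hinj.bijective_of_nat_card_le hcard.le).2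
    ⟨(h : L ⧸ N), fun e => hh (by simpa using QuotientGroup.eq.1 e)⟩
  exact ⟨v, v.2, QuotientGroup.eq.1 (congrArg Subtype.val hv)⟩

/-- The rigidity of the Borel shape: `C(v) = V` and `|G : N(V)| = |V| + 1`. -/
theorem rigidCent_of_cc [IsSimpleGroup L] (hV : ∀ x ∈ V, x * x = 1) (hne : V ≠ ⊥)
    (hcc : ∀ v ∈ V, v ≠ 1 → centralizer {v} ≤ V)
    (hidx : (normalizer (V : Set L)).index = Nat.card V + 1) {v : L} (hv : v ∈ V) :
    RigidCent v := by
  intro φ hφ hfix
  have hcore : (normalizer (V : Set L)).normalCore = ⊥ := by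
    refine (IsSimpleGroup.eq_bot_or_eq_top_of_normal _
      (normalCore_normal (normalizer (V : Set L)))).resolve_right fun e => ?_
    have h1 : normalizer (V : Set L) = ⊤ := top_le_iff.1 (e ▸ normalCore_le _)
    rw [h1, index_top] at hidx
    have : 0 < Nat.card V := Nat.card_pos
    omega
  obtain ⟨u, hu, hu1⟩ := V.bot_or_exists_ne_one.resolve_left hne
  have hC : centralizer (V : Set L) ≤ V := fun x hx => hcc u hu hu1
    (mem_centralizer_singleton_iff.2 (mem_centralizer_iff.1 hx u hu).symm)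
  have hfV : Fixes φ V := fun x hx => hfix x (le_centralizer_of_elem hV hv hx)
  exact eq_one_of_borel hV le_normalizer hcore (trans_of_cc hV hne hcc hidx) hφ
    (fixes_normalizer hV hC hφ hfV)

end TI

end Cfsg.Agent.H50.Walter
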