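import Cfsg.Agent.H50.Walter.Transport
import Cfsg.Agent.H88.Walter.PiecePSL
import Cfsg.Agent.H26.KleinSylow
import Cfsg.Agent.Linear.Simple

/-!
# Piece facts for `PSL(2, q)`, `q ≡ 3, 5 (mod 8)`
-/

set_option autoImplicit false
set_option linter.unusedSectionVars false
set_option linter.style.haveILetI false

namespace Cfsg.Agent.H50.Walter.Odd

open Subgroup Cfsg.Agent Cfsg.Agent.Linear.Dickson Cfsg.Agent.H88.Walter

variable {F : Type*} [Field F] [Fintype F]

local notation "P2" => Matrix.ProjectiveSpecialLinearGroup (Fin 2) F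

local instance fact_two : Fact (Nat.Prime 2) := ⟨Nat.prime_two⟩

variable (h8 : Fintype.card F % 8 = 3 ∨ Fintype.card F % 8 = 5) (h5 : 5 ≤ Fintype.card F)

include h8 in
theorem odd_card : Odd (Fintype.card F) := Nat.odd_iff.2 (by omega)

include h5 in
theorem simple : IsSimpleGroup P2 :=
  Linear.isSimpleGroup_PSL_fin le_rfl fun _ => by rw [Nat.card_eq_fintype_card]; omega

include h5 in
theorem nonabelian : ¬ IsMulCommutative P2 := fun h => by
  have hns := not_isSolvable_PSL (K := F) (by rw [Nat.card_eq_fintype_card]; omega)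
  exact hns (Group.isSolvable_of_comm h.is_comm.comm)

include h5 in
theorem center_eq : center P2 = ⊥ := by
  haveI := simple (F := F) h5
  refine (IsSimpleGroup.eq_bot_or_eq_top_of_normal (center P2) inferInstance).resolve_right
    fun e => nonabelian (F := F) h5 ⟨⟨fun a b => ((mem_center_iff.1 (e ▸ mem_top a :
      a ∈ center P2)) b).symm⟩⟩

include h8 in
theorem exists_four {v : P2} (hv1 : v ≠ 1) (hv : v * v = 1) :
    ∃ u, Commute u v ∧ u * u = 1 ∧ u ≠ 1 ∧ u ≠ v := by
  have hu := H88.Walter.PSL.not_isUni (odd_card h8) hv1 hv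
  obtain ⟨w, -, hwc, hw2, hinv⟩ := exists_torus_inverter hu
  refine ⟨w, ?_, hw2, fun e => hwc (e ▸ one_mem _), fun e => hwc (e ▸ mem_cen_self v)⟩
  have h1 := hinv v (mem_cen_self v)
  rw [inv_eq_of_mul_eq_one_right hv] at h1
  exact (mul_inv_eq_iff_eq_mul.1 h1)

include h8 in
theorem elem (T : Sylow 2 P2) : ∀ x ∈ (T : Subgroup P2), x * x = 1 := by
  intro x hx
  have hodd := odd_card h8
  by_cases hT : (T : Subgroup P2) = ⊥
  · rw [hT, mem_bot] at hx; rw [hx, one_mul]
  haveI : Nontrivial ↥(T : Subgroup P2) := (Subgroup.nontrivial_iff_ne_bot _).2 hT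
  haveI := T.isPGroup'.center_nontrivial
  obtain ⟨z, hz⟩ := exists_prime_orderOf_dvd_card' (G := ↥(center ↥(T : Subgroup P2))) 2 (by
    obtain ⟨n, hn⟩ := IsPGroup.iff_card.1 (T.isPGroup'.to_subgroup (center ↥(T : Subgroup P2)))
    rw [hn]
    refine dvd_pow_self 2 fun e => ?_
    rw [e, pow_zero] at hn
    exact Finite.one_lt_card.ne' hn)
  set v : P2 := ((z : ↥(T : Subgroup P2)) : P2) with hvdef
  have hvo : orderOf v = 2 := by rw [hvdef, Subgroup.orderOf_coe, Subgroup.orderOf_coe, hz]
  have hv1 : v ≠ 1 := fun e => by rw [e, orderOf_one] at hvo; omega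
  have hv : v * v = 1 := by
    have h := pow_orderOf_eq_one v
    rwa [hvo, pow_two] at h
  have hxv : x ∈ centralizer ({v} : Set P2) := mem_centralizer_singleton_iff.2
    (congrArg Subtype.val ((mem_center_iff.1 z.2) ⟨x, hx⟩))
  rw [H88.Walter.PSL.centralizer_eq hodd hv1 hv] at hxv
  rcases normalizer_cases (H88.Walter.PSL.not_isUni hodd hv1 hv) (mem_normalizer_iff.1 hxv) with
    h | ⟨h, -⟩
  · obtain ⟨k, hk⟩ := T.isPGroup' ⟨x, hx⟩
    have hk' : x ^ 2 ^ k = 1 := by simpa using congrArg Subtype.val hk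
    obtain ⟨j, -, hj⟩ := (Nat.dvd_prime_pow Nat.prime_two).1 (orderOf_dvd_of_pow_eq_one hk')
    have hd : orderOf x ∣ Nat.card (cen v) := Subgroup.orderOf_dvd_natCard _ h
    have hm := (H88.Walter.PSL.card_cen_mod h8 hv1 hv).1
    rw [hj] at hd
    have h2 : orderOf x ∣ 2 := by
      rcases Nat.lt_or_ge j 2 with hlt | hge
      · interval_cases j <;> rw [hj] <;> decide
      · exfalso
        have : 4 ∣ Nat.card (cen v) := (pow_dvd_pow 2 hge).trans hd
        omega
    rw [← pow_two]
    exact orderOf_dvd_iff_pow_eq_one.1 h2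
  · exact h

include h8 in
/-- Every involution lies in a Sylow subgroup `⟨v, u⟩`. -/
theorem sylow_four {v u : P2} (hv1 : v ≠ 1) (hv : v * v = 1) (hu : Commute u v)
    (hu2 : u * u = 1) (hu1 : u ≠ 1) (huv : u ≠ v) :
    ∃ T : Sylow 2 P2, (T : Subgroup P2) = closure ({v, u} : Set P2) := by
  have hsq : ∀ x ∈ closure ({v, u} : Set P2), x * x = 1 ∧ Commute x v ∧ Commute x u := by
    intro x hx
    induction hx using closure_induction with
    | mem y hy =>
      rcases hy with rfl | rfl
      · exact ⟨hv, Commute.refl _, hu.symm⟩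
      · exact ⟨hu2, hu, Commute.refl _⟩
    | one => exact ⟨one_mul 1, Commute.one_left _, Commute.one_left _⟩
    | mul a b ha hb iha ihb =>
      have hab : a * b = b * a := by
        have hc : closure ({v, u} : Set P2) ≤ centralizer ({b} : Set P2) := by
          refine (closure_le _).2 ?_
          rintro y (rfl | rfl)
          · exact mem_centralizer_singleton_iff.2 ihb.2.1.eq.symm
          · exact mem_centralizer_singleton_iff.2 ihb.2.2.eq.symm
        exact mem_centralizer_singleton_iff.1 (hc ha)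
      refine ⟨?_, iha.2.1.mul_left ihb.2.1, iha.2.2.mul_left ihb.2.2⟩
      calc a * b * (a * b) = a * (b * a) * b := by group
        _ = a * (a * b) * b := by rw [hab]
        _ = a * a * (b * b) := by group
        _ = 1 := by rw [iha.1, ihb.1, one_mul]
    | inv a ha iha =>
      exact ⟨by rw [← mul_inv_rev, iha.1, inv_one], iha.2.1.inv_left, iha.2.2.inv_left⟩
  have hp : IsPGroup 2 ↥(closure ({v, u} : Set P2)) := fun y =>
    ⟨1, Subtype.ext (by simpa [pow_two] using (hsq y y.2).1)⟩
  obtain ⟨T, hT⟩ := hp.exists_le_sylow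
  refine ⟨T, le_antisymm (fun x hx => ?_) hT⟩
  refine H88.Walter.PSL.centralizer_four (odd_card h8) hv1 hv hu hu2 hu1 huv ?_
  refine mem_centralizer_iff.2 ?_
  rintro y (rfl | rfl)
  · exact (comm_of_elem (elem h8 T) (hT (subset_closure (Or.inl rfl))) hx).eq
  · exact (comm_of_elem (elem h8 T) (hT (subset_closure (Or.inr rfl))) hx).eq

include h8 in
theorem even_card : 2 ∣ Nat.card P2 := by
  have h := Linear.card_PSL_two_mul (F := F)
  obtain ⟨k, hk⟩ := odd_card h8
  rw [Nat.gcd_eq_left (by omega : 2 ∣ Fintype.card F - 1),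
    show Fintype.card F ^ 2 - 1 = 4 * (k * (k + 1)) by
      rw [hk, show (2 * k + 1) ^ 2 = 4 * (k * (k + 1)) + 1 by ring]; omega] at h
  exact ⟨Fintype.card F * (k * (k + 1)), by linarith⟩

include h8 in
theorem card_sylow (h2 : 2 ∣ Nat.card P2) (T : Sylow 2 P2) : Nat.card (T : Subgroup P2) = 4 := by
  obtain ⟨v, hvo⟩ := exists_prime_orderOf_dvd_card' 2 h2
  have hv1 : v ≠ 1 := fun e => by rw [e, orderOf_one] at hvo; omega
  have hv : v * v = 1 := by
    have h := pow_orderOf_eq_one v
    rwa [hvo, pow_two] at h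
  obtain ⟨u, hu, hu2, hu1, huv⟩ := exists_four h8 hv1 hv
  obtain ⟨T0, hT0⟩ := sylow_four h8 hv1 hv hu hu2 hu1 huv
  rw [T.card_eq_multiplicity, ← T0.card_eq_multiplicity, hT0]
  have hset : ((closure ({v, u} : Set P2) : Subgroup P2) : Set P2) = {1, v, u, v * u} := by
    refine Set.Subset.antisymm (fun x hx => ?_) ?_
    · induction hx using closure_induction with
      | mem y hy => rcases hy with rfl | rfl <;> simp
      | one => simp
      | mul a b _ _ ha hb =>
        simp only [Set.mem_insert_iff, Set.mem_singleton_iff] at ha hb ⊢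
        have e1 : v * (v * u) = u := by rw [← mul_assoc, hv, one_mul]
        have e2 : u * v = v * u := hu.eq
        have e3 : u * (v * u) = v := by rw [← mul_assoc, e2, mul_assoc, hu2, mul_one]
        have e4 : v * u * v = u := by rw [mul_assoc, e2, e1]
        have e5 : v * u * u = v := by rw [mul_assoc, hu2, mul_one]
        have e6 : v * u * (v * u) = 1 := by rw [← mul_assoc, e4, hu2]
        rcases ha with rfl | rfl | rfl | rfl <;> rcases hb with rfl | rfl | rfl | rfl <;>
          simp [hv, hu2, e1, e2, e3, e4, e5, e6]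
      | inv a _ ha =>
        have ev : v⁻¹ = v := inv_eq_of_mul_eq_one_right hv
        have eu : u⁻¹ = u := inv_eq_of_mul_eq_one_right hu2
        simp only [Set.mem_insert_iff, Set.mem_singleton_iff] at ha ⊢
        rcases ha with rfl | rfl | rfl | rfl <;> simp [ev, eu, hu.eq]
    · rintro x (rfl | rfl | rfl | rfl)
      · exact one_mem _
      · exact subset_closure (Or.inl rfl)
      · exact subset_closure (Or.inr rfl)
      · exact mul_mem (subset_closure (Or.inl rfl)) (subset_closure (Or.inr rfl))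
  rw [← SetLike.coe_sort_coe, hset, Nat.card_coe_set_eq]
  have h3 : v * u ≠ 1 := fun e => huv (by
    have := congrArg (fun y => v * y) e
    simpa [← mul_assoc, hv] using this)
  have h4 : v * u ≠ v := fun e => hu1 (mul_eq_left.1 e)
  have h5 : v * u ≠ u := fun e => hv1 (mul_eq_right.1 e)
  rw [Set.ncard_insert_of_notMem (by simp [hv1.symm, hu1.symm, h3.symm]),
    Set.ncard_insert_of_notMem (by simp [huv.symm, h4.symm]),
    Set.ncard_insert_of_notMem (by simp [h5.symm]), Set.ncard_singleton]

include h8 h5 in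
theorem selfCent (T : Sylow 2 P2) : centralizer ((T : Subgroup P2) : Set P2) ≤ T := by
  have hodd := odd_card h8
  have hT : (T : Subgroup P2) ≠ ⊥ := fun e => by
    have h := card_sylow h8 (even_card h8) T
    rw [e, Subgroup.card_bot] at h
    omega
  obtain ⟨v, hvT, hv1⟩ := (T : Subgroup P2).bot_or_exists_ne_one.resolve_left hT
  have hv := elem h8 T v hvT
  obtain ⟨u, huT, hu1, huv⟩ : ∃ u ∈ (T : Subgroup P2), u ≠ 1 ∧ u ≠ v := by
    by_contra hno
    push Not at hno
    have hle : ((T : Subgroup P2) : Set P2) ⊆ {1, v} := fun x hx => by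
      by_cases h : x = 1
      · exact Or.inl h
      · exact Or.inr (hno x hx h)
    have := Set.ncard_le_ncard hle
    rw [← Nat.card_coe_set_eq, SetLike.coe_sort_coe, card_sylow h8 (even_card h8) T,
      Set.ncard_pair hv1.symm] at this
    omega
  intro x hx
  have hc := comm_of_elem (elem h8 T) huT hvT
  refine (closure_le _).2 ?_
    (H88.Walter.PSL.centralizer_four hodd hv1 hv hc (elem h8 T u huT) hu1 huv
      (mem_centralizer_iff.2 ?_))
  · rintro y (rfl | rfl) <;> assumption
  · rintro y (rfl | rfl)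
    · exact mem_centralizer_iff.1 hx y hvT
    · exact mem_centralizer_iff.1 hx y huT

include h8 h5 in
theorem conj (u v : P2) (hu1 : u ≠ 1) (hu : u * u = 1) (hv1 : v ≠ 1) (hv : v * v = 1) :
    IsConj u v := by
  haveI := simple (F := F) h5
  obtain ⟨T⟩ : Nonempty (Sylow 2 P2) := inferInstance
  have hcard := card_sylow h8 (even_card h8) T
  have hK : IsKleinFour (T : Subgroup P2) := by
    refine ⟨hcard, Nat.dvd_antisymm ?_ ?_⟩
    · exact Monoid.exponent_dvd_of_forall_pow_eq_one fun x =>
        Subtype.ext (by simpa [pow_two] using elem h8 T x x.2)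
    · obtain ⟨x, hx⟩ := exists_prime_orderOf_dvd_card' (G := ↥(T : Subgroup P2)) 2
        (by rw [hcard]; norm_num)
      have h := Monoid.order_dvd_exponent x
      rwa [hx] at h
  rcases H26.klein_classes_one_or_three T hK with h | h
  · obtain ⟨hsub, -⟩ := Nat.card_eq_one_iff_unique.1 h
    have ho : ∀ w : P2, w ≠ 1 → w * w = 1 → orderOf w = 2 := fun w hw1 hw =>
      orderOf_eq_prime (by rw [pow_two, hw]) hw1
    exact ConjClasses.mk_eq_mk_iff_isConj.1 (congrArg Subtype.val (hsub.elim
      ⟨ConjClasses.mk u, u, ho u hu1 hu, rfl⟩ ⟨ConjClasses.mk v, v, ho v hv1 hv, rfl⟩))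
  · exfalso
    obtain ⟨N, hN, hcompl⟩ := (H26.klein_classes_three_iff T hK).1 h
    haveI := hN
    rcases IsSimpleGroup.eq_bot_or_eq_top_of_normal N hN with e | e
    · have := hcompl.card_mul_card
      rw [e, Subgroup.card_bot, one_mul, hcard] at this
      refine nonabelian (F := F) h5 ⟨⟨fun a b => ?_⟩⟩
      have hT : (T : Subgroup P2) = ⊤ := eq_top_of_card_eq _ (hcard.trans this)
      exact (comm_of_elem (elem h8 T) (hT ▸ mem_top a) (hT ▸ mem_top b)).eq
    · have := hcompl.card_mul_card
      rw [e, Subgroup.card_top, hcard] at this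
      have : 0 < Nat.card P2 := Nat.card_pos
      omega

include h8 in
theorem centralizer_le_of_five (hq : Fintype.card F = 5) {T : Sylow 2 P2} {v : P2}
    (hvT : v ∈ (T : Subgroup P2)) (hv1 : v ≠ 1) (hcard : Nat.card (T : Subgroup P2) = 4) :
    centralizer {v} ≤ (T : Subgroup P2) := by
  have hodd := odd_card h8
  have hv := elem h8 T v hvT
  obtain ⟨u, huT, huc⟩ : ∃ u ∈ (T : Subgroup P2), u ∉ cen v := by
    by_contra hno
    push Not at hno
    have h1 := card_le_of_le (hno : (T : Subgroup P2) ≤ cen v)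
    obtain ⟨hm, hc⟩ := H88.Walter.PSL.card_cen_mod h8 hv1 hv
    omega
  have hu2 := elem h8 T u huT
  have huN : u ∈ normalizer ((cen v : Subgroup P2) : Set P2) := by
    rw [← H88.Walter.PSL.centralizer_eq hodd hv1 hv]
    exact mem_centralizer_singleton_iff.2 (comm_of_elem (elem h8 T) huT hvT).eq
  have hcv : cen v ≤ (T : Subgroup P2) := by
    obtain ⟨hm, hc⟩ := H88.Walter.PSL.card_cen_mod h8 hv1 hv
    have hz : zpowers v = cen v := eq_of_le_of_card_ge (zpowers_le.2 (mem_cen_self v)) (by
      rw [Nat.card_zpowers, orderOf_eq_prime (by rw [pow_two, hv]) hv1]; omega)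
    rw [← hz]
    exact zpowers_le.2 hvT
  intro g hg
  rw [H88.Walter.PSL.centralizer_eq hodd hv1 hv] at hg
  by_cases hgc : g ∈ cen v
  · exact hcv hgc
  · have := mul_mem (hcv (inverter_mul_mem (H88.Walter.PSL.not_isUni hodd hv1 hv)
      (mem_normalizer_iff.1 hg) (mem_normalizer_iff.1 huN) hgc huc)) (inv_mem huT)
    rwa [mul_inv_cancel_right] at this

include h8 h5 in
theorem trans (T : Sylow 2 P2) {u v : P2} (hu : u ∈ (T : Subgroup P2)) (hu1 : u ≠ 1)
    (hv : v ∈ (T : Subgroup P2)) (hv1 : v ≠ 1) :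
    ∃ n ∈ normalizer ((T : Subgroup P2) : Set P2), n * u * n⁻¹ = v := by
  obtain ⟨g, hg⟩ := isConj_iff.1 (conj h8 h5 u v hu1 (elem h8 T u hu) hv1 (elem h8 T v hv))
  have hc : ∀ x ∈ (T : Subgroup P2), x ∈ centralizer ((T : Subgroup P2) : Set P2) := fun x hx =>
    mem_centralizer_iff.2 fun y hy => (comm_of_elem (elem h8 T) hy hx).eq
  obtain ⟨n, hn, hn'⟩ :=
    Cfsg.Agent.Fusion.burnside_fusion_centralizer T (hc u hu) (g := g) (hg ▸ hc v hv)
  exact ⟨n, hn, hn'.trans hg⟩

theorem exists_other {T : Subgroup P2} {v : P2} (hcard : Nat.card T = 4) (hv1 : v ≠ 1) :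
    ∃ u ∈ T, u ≠ 1 ∧ u ≠ v := by
  by_contra hno
  push Not at hno
  have hle : (T : Set P2) ⊆ {1, v} := fun x hx => by
    by_cases h : x = 1
    · exact Or.inl h
    · exact Or.inr (hno x hx h)
  have h2 := Set.ncard_le_ncard hle
  rw [← Nat.card_coe_set_eq, SetLike.coe_sort_coe, hcard, Set.ncard_pair hv1.symm] at h2
  omega

include h8 h5 in
theorem rigid (v : P2) (hv1 : v ≠ 1) (hv : v * v = 1) : RigidCent v := by
  haveI := simple (F := F) h5
  obtain ⟨u, hu, hu2, hu1, huv⟩ := exists_four h8 hv1 hv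
  obtain ⟨T, hT⟩ := sylow_four h8 hv1 hv hu hu2 hu1 huv
  have hvT : v ∈ (T : Subgroup P2) := hT ▸ subset_closure (Or.inl rfl)
  have huT : u ∈ (T : Subgroup P2) := hT ▸ subset_closure (Or.inr rfl)
  have hcard := card_sylow h8 (even_card h8) T
  obtain ⟨g, hgN, hgv⟩ := trans h8 h5 T hvT hv1 huT hu1
  by_cases h11 : 11 ≤ Fintype.card F
  · intro φ hφ hfix
    have hfV : Fixes φ (T : Subgroup P2) := fun x hx =>
      hfix x (le_centralizer_of_elem (elem h8 T) hvT hx)
    exact H88.Walter.PSL.rigidAt h8 h11 hv1 hv hgN (by rw [hgv]; exact huv) φ hφ hfV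
      (fixes_normalizer (elem h8 T) (selfCent h8 h5 T) hφ hfV) hfix
  · have hq : Fintype.card F = 5 := by omega
    refine rigidCent_of_cc (elem h8 T) (fun e => hv1 (by rwa [e, mem_bot] at hvT))
      (fun w hw hw1 => centralizer_le_of_five h8 hq hw hw1 hcard) ?_ hvT
    have hG : Nat.card P2 = 60 := by
      have h := Linear.card_PSL_two_mul (F := F)
      rw [hq] at h
      norm_num at h
      omega
    set N := normalizer ((T : Subgroup P2) : Set P2) with hN
    have hTN : (T : Subgroup P2) ≤ N := le_normalizer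
    have hmul := N.card_mul_index
    rw [hG] at hmul
    have h4 : 4 ∣ Nat.card N := hcard ▸ card_dvd_of_le hTN
    have hne4 : Nat.card N ≠ 4 := fun e => huv (by
      have hgT : g ∈ (T : Subgroup P2) := (eq_of_le_of_card_ge hTN (by omega)).symm ▸ hgN
      rw [← hgv, (comm_of_elem (elem h8 T) hgT hvT).eq, mul_inv_cancel_right])
    have hidx1 : N.index ≠ 1 := fun e => by
      have hn : (T : Subgroup P2).Normal := normalizer_eq_top_iff.1 (index_eq_one.1 e)
      rcases IsSimpleGroup.eq_bot_or_eq_top_of_normal _ hn with e' | e'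
      · rw [e', Subgroup.card_bot] at hcard; omega
      · rw [e', Subgroup.card_top] at hcard; omega
    have hidx3 : N.index ≠ 3 := fun e => by
      have hcore : N.normalCore = ⊥ :=
        (IsSimpleGroup.eq_bot_or_eq_top_of_normal _ (normalCore_normal N)).resolve_right fun e' =>
          hidx1 (index_eq_one.2 (top_le_iff.1 (e' ▸ normalCore_le N)))
      have hd : N.normalCore.index ∣ (N.index).factorial := by
        rw [normalCore_eq_ker, index_ker, index_eq_card, ← Nat.card_perm]
        exact card_subgroup_dvd_card _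
      rw [hcore, index_bot, hG, e] at hd
      norm_num [Nat.factorial] at hd
    rw [hcard]
    obtain ⟨k, hk⟩ := h4
    rw [hk] at hmul
    have h15 : k * N.index = 15 := by
      rw [mul_assoc] at hmul; omega
    have hk1 : k ≠ 1 := fun e => hne4 (by omega)
    have hi : N.index ∣ 15 := ⟨k, by rw [← h15, mul_comm]⟩
    have h' : N.index = 1 ∨ N.index = 3 ∨ N.index = 5 ∨ N.index = 15 := by
      have : N.index ∈ Nat.divisors 15 := Nat.mem_divisors.2 ⟨hi, by norm_num⟩
      rw [show Nat.divisors 15 = {1, 3, 5, 15} by decide] at this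
      simpa using this
    rcases h' with e | e | e | e
    · exact absurd e hidx1
    · exact absurd e hidx3
    · exact e
    · rw [e] at h15; exfalso; exact hk1 (by omega)

include h8 h5 in
theorem facts : PieceFacts P2 where
  center_eq := center_eq h5
  elem := elem h8
  conj := conj h8 h5
  rigid := rigid h8 h5
  fixRigid T := fixRigid_of_selfCent (elem h8 T) (selfCent h8 h5 T) (center_eq h5) (rigid h8 h5)

include h8 in
/-- `PSL(2, 5)` is balanced. -/
theorem balanced_of_five (hq : Fintype.card F = 5) (v : P2) (hv1 : v ≠ 1) (hv : v * v = 1) :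
    BalancedAt v := by
  have h5 : 5 ≤ Fintype.card F := hq.ge
  obtain ⟨u, hu, hu2, hu1, huv⟩ := exists_four h8 hv1 hv
  obtain ⟨T, hT⟩ := sylow_four h8 hv1 hv hu hu2 hu1 huv
  exact balancedAt_of_le (elem h8 T) (centralizer_le_of_five h8 hq
    (hT ▸ subset_closure (Or.inl rfl)) hv1 (card_sylow h8 (even_card h8) T))

end Cfsg.Agent.H50.Walter.Odd
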