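import Cfsg.Agent.H50.Walter.PieceDef

/-!
# Piece facts are invariant under isomorphism
-/

set_option autoImplicit false
set_option linter.unusedSectionVars false
set_option linter.style.haveILetI false

namespace Cfsg.Agent.H50.Walter

open Subgroup Cfsg.Agent.H88.Walter

variable {L M : Type*} [Group L] [Group M]

theorem centralizer_map (e : L ≃* M) (v : L) :
    (centralizer {v}).map e.toMonoidHom = centralizer {e v} := by
  ext y
  constructor
  · rintro ⟨x, hx, rfl⟩
    rw [SetLike.mem_coe, mem_centralizer_singleton_iff] at hx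
    rw [mem_centralizer_singleton_iff]
    show e x * e v = e v * e x
    rw [← map_mul, ← map_mul, hx]
  · intro hy
    rw [mem_centralizer_singleton_iff] at hy
    exact ⟨e.symm y, mem_centralizer_singleton_iff.2 (e.injective (by simpa using hy)),
      e.apply_symm_apply y⟩

theorem fixes_congr (e : L ≃* M) {φ : MulAut L} {U : Subgroup L} (h : Fixes φ U) :
    Fixes (MulAut.congr e φ) (U.map e.toMonoidHom) := by
  rintro _ ⟨x, hx, rfl⟩
  show e (φ (e.symm (e x))) = e x
  rw [e.symm_apply_apply, h x hx]

theorem rigidCent_congr (e : L ≃* M) {v : L} (h : RigidCent (e v)) : RigidCent v := by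
  intro φ hφ hfix
  have h1 : MulAut.congr e φ = 1 := h _ (by
    rwa [show orderOf (MulAut.congr e φ) = orderOf φ from (MulAut.congr e).orderOf_eq φ])
    (by rw [← centralizer_map]; exact fixes_congr e hfix)
  exact (MulAut.congr e).injective (by rw [h1, map_one])

theorem balancedAt_congr (e : L ≃* M) {v : L} (h : BalancedAt (e v)) : BalancedAt v := by
  intro X hX hodd hn
  have h1 : X.map e.toMonoidHom = ⊥ := by
    refine h _ (centralizer_map e v ▸ map_mono hX) ?_ ?_
    · rwa [card_map_of_injective e.injective]
    · rw [← centralizer_map e v]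
      rintro _ ⟨c, hc, rfl⟩
      refine mem_normalizer_iff.2 fun y => ?_
      obtain ⟨x, rfl⟩ := e.surjective y
      show e x ∈ X.map e.toMonoidHom ↔ e c * e x * (e c)⁻¹ ∈ X.map e.toMonoidHom
      rw [← map_inv, ← map_mul, ← map_mul]
      exact ((mem_map_iff_mem (f := e.toMonoidHom) e.injective).trans
        (mem_normalizer_iff.1 (hn hc) x)).trans
        (mem_map_iff_mem (f := e.toMonoidHom) e.injective).symm
  exact (map_eq_bot_iff_of_injective X e.injective).1 h1

/-- The facts pass along an isomorphism. -/
theorem PieceFacts.congr [Finite L] [Finite M] (e : L ≃* M) (h : PieceFacts M) : PieceFacts L where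
  center_eq := by
    rw [eq_bot_iff]
    intro x hx
    have : e x ∈ center M := mem_center_iff.2 fun y => by
      obtain ⟨z, rfl⟩ := e.surjective y
      rw [← map_mul, ← map_mul, mem_center_iff.1 hx z]
    rw [h.center_eq, mem_bot] at this
    exact mem_bot.2 (e.injective (by rw [this, map_one]))
  elem T x hx := by
    haveI : Fact (Nat.Prime 2) := ⟨Nat.prime_two⟩
    have h1 : e x ∈ ((T.mapSurjective (f := e.toMonoidHom) e.surjective : Sylow 2 M) : Subgroup M) :=
      show e x ∈ (T : Subgroup L).map e.toMonoidHom from ⟨x, hx, rfl⟩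
    exact e.injective (by rw [map_mul, map_one]; exact h.elem _ _ h1)
  conj u v hu hu2 hv hv2 := by
    obtain ⟨c, hc⟩ := isConj_iff.1 (h.conj (e u) (e v) (by simpa using hu)
      (by rw [← map_mul, hu2, map_one]) (by simpa using hv) (by rw [← map_mul, hv2, map_one]))
    exact isConj_iff.2 ⟨e.symm c, e.injective (by simpa using hc)⟩
  rigid v hv hv2 := rigidCent_congr e
    (h.rigid (e v) (by simpa using hv) (by rw [← map_mul, hv2, map_one]))
  fixRigid T := by
    haveI : Fact (Nat.Prime 2) := ⟨Nat.prime_two⟩
    intro v hvT hv1 W hW hfix hn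
    have hc : ((T.mapSurjective (f := e.toMonoidHom) e.surjective : Sylow 2 M) : Subgroup M) =
        (T : Subgroup L).map e.toMonoidHom := Sylow.coe_mapSurjective (f := e.toMonoidHom) e.surjective T
    have h1 : W.map (MulAut.congr e).toMonoidHom = ⊥ := by
      refine h.fixRigid (T.mapSurjective (f := e.toMonoidHom) e.surjective) (e v) (hc ▸ ⟨v, hvT, rfl⟩)
        (by simpa using hv1) _ ?_ ?_ ?_
      · rwa [card_map_of_injective (MulAut.congr e).injective]
      · rintro _ ⟨w, hw, rfl⟩
        rw [hc]
        exact fixes_congr e (hfix w hw)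
      · rw [← centralizer_map e v]
        rintro _ ⟨c, hc', rfl⟩
        have h2 : MulAut.conj (e c) = MulAut.congr e (MulAut.conj c) := by
          refine MulEquiv.ext fun y => ?_
          obtain ⟨x, rfl⟩ := e.surjective y
          simp [MulAut.congr]
        show MulAut.conj (e c) ∈ _
        rw [h2]
        refine mem_normalizer_iff.2 fun y => ?_
        obtain ⟨x, rfl⟩ := (MulAut.congr e).surjective y
        rw [← map_inv, ← map_mul, ← map_mul]
        exact ((mem_map_iff_mem (f := (MulAut.congr e).toMonoidHom) (MulAut.congr e).injective).trans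
          (mem_normalizer_iff.1 (hn c hc') x)).trans
          (mem_map_iff_mem (f := (MulAut.congr e).toMonoidHom) (MulAut.congr e).injective).symm
    exact (map_eq_bot_iff_of_injective W (MulAut.congr e).injective).1 h1

theorem selfCent_congr [Finite L] [Finite M] (e : L ≃* M)
    (h : ∀ T : Sylow 2 M, centralizer ((T : Subgroup M) : Set M) ≤ T) (T : Sylow 2 L) :
    centralizer ((T : Subgroup L) : Set L) ≤ T := by
  haveI : Fact (Nat.Prime 2) := ⟨Nat.prime_two⟩
  intro x hx
  have hc : ((T.mapSurjective (f := e.toMonoidHom) e.surjective : Sylow 2 M) : Subgroup M) =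
      (T : Subgroup L).map e.toMonoidHom := Sylow.coe_mapSurjective (f := e.toMonoidHom) e.surjective T
  have := h (T.mapSurjective (f := e.toMonoidHom) e.surjective) (x := e x) (by
    rw [hc]
    refine mem_centralizer_iff.2 ?_
    rintro _ ⟨y, hy, rfl⟩
    show e y * e x = e x * e y
    rw [← map_mul, ← map_mul, mem_centralizer_iff.1 hx y hy])
  rw [hc] at this
  exact (mem_map_iff_mem (f := e.toMonoidHom) e.injective).1 this

end Cfsg.Agent.H50.Walter
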